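import Groth.Agent.L06.RootOver.Weights
import Groth.Agent.L08.Borel.BaseChange
import Groth.Prelude.Def_ActBC

/-!
# Lie algebras of base changes to test algebras
-/

set_option autoImplicit false
set_option maxSynthPendingDepth 3
set_option linter.unusedSectionVars false
set_option linter.style.haveILetI false
set_option backward.isDefEq.respectTransparency.types false
set_option backward.isDefEq.respectTransparency false
set_option maxHeartbeats 1000000
set_option synthInstance.maxHeartbeats 200000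

universe u v

open CategoryTheory CategoryTheory.Limits MonoidalCategory CartesianMonoidalCategory MonObj GrpObj AlgebraicGeometry
open LieS Groth.L20.Pinch Groth.L09.Patch Groth.L06.Lie
open Groth.L25.NilAction

noncomputable section

namespace Groth.L06.RootOver

variable {R K : Type u} [CommRing R] [CommRing K] [Algebra R K]
variable {B' : Type u} [CommRing B'] [Algebra R B'] [Algebra K B'] [IsScalarTower R K B']

theorem fB_comp : fB K B' ≫ fB R K = fB R B' := by
  rw [fB, fB, fB, sp_comp, ← IsScalarTower.algebraMap_eq]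

variable (R K B')

/-- test points seen over the smaller base -/
def pB : Over.mk ((VecGrp.pt K B').hom ≫ fB R K) ≅ VecGrp.pt R B' :=
  Over.isoMk (Iso.refl (Spec (CommRingCat.of B'))) ((Category.id_comp _).trans fB_comp.symm)

/-- dual numbers seen over the smaller base -/
def dB : Over.mk ((dpt B' (fB K B')).hom ≫ fB R K) ≅ dpt B' (fB R B') :=
  Over.isoMk (Iso.refl (Spec (CommRingCat.of (DualNumber B')))) (by
    show 𝟙 _ ≫ sp (algebraMap B' (DualNumber B')) ≫ fB R B' = (sp (algebraMap B' (DualNumber B')) ≫ fB K B') ≫ fB R K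
    rw [Category.id_comp, Category.assoc, fB_comp (R := R) (K := K) (B' := B')])

variable {R K B'}
variable {X Y : Over (Spec (CommRingCat.of R))}

/-- a point of the base change as a point -/
def ptR (g : VecGrp.pt K B' ⟶ Red.bc (fB R K) X) : VecGrp.pt R B' ⟶ X := (pB R K B').inv ≫ toBase (fB R K) g

/-- a point as a point of the base change -/
def ptK (g : VecGrp.pt R B' ⟶ X) : VecGrp.pt K B' ⟶ Red.bc (fB R K) X :=
  ofBase (fB R K) ((pB R K B').hom ≫ g)

theorem ptR_ptK (g : VecGrp.pt R B' ⟶ X) : ptR (K := K) (ptK g) = g := by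
  rw [ptR, ptK, toBase_ofBase, Iso.inv_hom_id_assoc]

theorem ptR_map (g : VecGrp.pt K B' ⟶ Red.bc (fB R K) X) (f : X ⟶ Y) :
    ptR (g ≫ (Over.pullback (fB R K)).map f) = ptR g ≫ f := by
  rw [ptR, ptR, Groth.L08.Borel.toBase_map', Category.assoc]

variable {G : Over (Spec (CommRingCat.of R))} [GrpObj G]

/-- Lie elements of a base change, over the smaller base -/
def lieR' : LieR (Red.bc (fB R K) G) B' →* LieR G B' where
  toFun z := ⟨(dB R K B').inv ≫ toBase (fB R K) z.1, by
    rw [mem_Lie_iff, ← Category.assoc]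
    have h : zeroSec B' (fB R B') ≫ (dB R K B').inv =
        (pB R K B').inv ≫ (Over.map (fB R K)).map (zeroSec B' (fB K B')) :=
      Over.OverMorphism.ext ((Category.comp_id _).trans (Category.id_comp _).symm)
    rw [h, Category.assoc, ← Groth.L08.Borel.toBase_comp, (mem_Lie_iff _ B' _ z.1).1 z.2, toBase_one,
      MonObj.comp_one]⟩
  map_one' := Subtype.ext (by
    show (dB R K B').inv ≫ toBase (fB R K) (1 : dpt B' (fB K B') ⟶ Red.bc (fB R K) G) = 1
    rw [toBase_one, MonObj.comp_one])
  map_mul' z z' := Subtype.ext (by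
    show (dB R K B').inv ≫ toBase (fB R K) (z.1 * z'.1) = _
    rw [toBase_mul, MonObj.comp_mul]
    rfl)

theorem lieR'_smul (c : B') (z : LieR (Red.bc (fB R K) G) B') : lieR' (c • z) = c • lieR' z := by
  refine Subtype.ext ?_
  show (dB R K B').inv ≫ toBase (fB R K) (scale B' (fB K B') c ≫ z.1) =
    scale B' (fB R B') c ≫ (dB R K B').inv ≫ toBase (fB R K) z.1
  rw [Groth.L08.Borel.toBase_comp, ← Category.assoc, ← Category.assoc (scale B' (fB R B') c)]
  congr 1

theorem lieR'_bijective : Function.Bijective (lieR' : LieR (Red.bc (fB R K) G) B' → LieR G B') := by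
  refine ⟨fun z z' h => Subtype.ext ?_, fun x => ?_⟩
  · exact Groth.L08.Borel.toBase_injective _ _ _ ((cancel_epi (dB R K B').inv).1 (congrArg Subtype.val h))
  · have h0 : zeroSec B' (fB K B') ≫ ofBase (fB R K) ((dB R K B').hom ≫ x.1) =
        (1 : LieS.pt B' (fB K B') ⟶ Red.bc (fB R K) G) := by
      refine Groth.L08.Borel.toBase_injective _ _ _ ?_
      have h : (Over.map (fB R K)).map (zeroSec B' (fB K B')) ≫ (dB R K B').hom =
          (pB R K B').hom ≫ zeroSec B' (fB R B') :=
        Over.OverMorphism.ext ((Category.comp_id _).trans (Category.id_comp _).symm)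
      rw [Groth.L08.Borel.toBase_comp, toBase_ofBase, toBase_one, ← Category.assoc, h, Category.assoc,
        (mem_Lie_iff G B' _ x.1).1 x.2, MonObj.comp_one]
    let y : LieR (Red.bc (fB R K) G) B' := ⟨ofBase (fB R K) ((dB R K B').hom ≫ x.1), h0⟩
    exact ⟨y, Subtype.ext (by
      show (dB R K B').inv ≫ toBase (fB R K) (ofBase (fB R K) ((dB R K B').hom ≫ x.1)) = x.1
      rw [toBase_ofBase, Iso.inv_hom_id_assoc])⟩

theorem lieR'_Ad (g : VecGrp.pt K B' ⟶ Red.bc (fB R K) G) (z : LieR (Red.bc (fB R K) G) B') :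
    lieR' (Ad _ B' (fB K B') g z) = Ad G B' (fB R B') (ptR g) (lieR' z) := by
  refine Subtype.ext ?_
  show (dB R K B').inv ≫ toBase (fB R K)
      ((proj B' (fB K B') ≫ g) * z.1 * (proj B' (fB K B') ≫ g)⁻¹) =
    (proj B' (fB R B') ≫ (pB R K B').inv ≫ toBase (fB R K) g) * ((dB R K B').inv ≫ toBase (fB R K) z.1) *
      (proj B' (fB R B') ≫ (pB R K B').inv ≫ toBase (fB R K) g)⁻¹
  have hinv : ∀ a : dpt B' (fB K B') ⟶ Red.bc (fB R K) G, toBase (fB R K) a⁻¹ = (toBase (fB R K) a)⁻¹ := fun a =>
    eq_inv_of_mul_eq_one_left (by rw [← toBase_mul, inv_mul_cancel, toBase_one])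
  have h : (dB R K B').inv ≫ (Over.map (fB R K)).map (proj B' (fB K B')) =
      proj B' (fB R B') ≫ (pB R K B').inv :=
    Over.OverMorphism.ext ((Category.id_comp _).trans (Category.comp_id _).symm)
  rw [toBase_mul, toBase_mul, hinv, MonObj.comp_mul, MonObj.comp_mul, GrpObj.comp_inv,
    Groth.L08.Borel.toBase_comp, ← Category.assoc, h, Category.assoc]

variable {B'' : Type u} [CommRing B''] [Algebra R B''] [Algebra K B''] [IsScalarTower R K B'']

theorem lieR'_pullR (φ : B' →ₐ[K] B'') (z : LieR (Red.bc (fB R K) G) B') :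
    lieR' (pullR _ φ z) = pullR G (φ.restrictScalars R) (lieR' z) := by
  refine Subtype.ext ?_
  show (dB R K B'').inv ≫ toBase (fB R K) (dptMapR φ ≫ z.1) =
    dptMapR (φ.restrictScalars R) ≫ (dB R K B').inv ≫ toBase (fB R K) z.1
  rw [Groth.L08.Borel.toBase_comp, ← Category.assoc, ← Category.assoc (dptMapR (φ.restrictScalars R))]
  congr 1

/-- **weight spaces of a base change** -/
theorem mem_weightSpOf_bc_iff {T : Over (Spec (CommRingCat.of R))} (i : T ⟶ G)
    (α : T ⟶ Red.Gm (Spec (CommRingCat.of R)))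
    (αK : Red.bc (fB R K) T ⟶ Red.Gm (Spec (CommRingCat.of K)))
    (hα : ∀ (C : Type u) [CommRing C] [Algebra R C] [Algebra K C] [IsScalarTower R K C]
      (t : VecGrp.pt K C ⟶ Red.bc (fB R K) T), VecGrp.chiVal αK t = VecGrp.chiVal α (ptR t))
    (z : LieR (Red.bc (fB R K) G) K) :
    z ∈ LieWt.weightSpOf ((Over.pullback (fB R K)).map i) αK K ↔ lieR' z ∈ LieWt.weightSpOf i α K := by
  constructor
  · intro h C _ _ φ t
    letI : Algebra K C := φ.toRingHom.toAlgebra
    haveI : IsScalarTower R K C := IsScalarTower.of_algebraMap_eq fun r => (φ.commutes r).symm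
    let φK : K →ₐ[K] C := Algebra.ofId K C
    have h1 := (tr_iff _ φK (ptK t ≫ (Over.pullback (fB R K)).map i) (VecGrp.chiVal αK (ptK (K := K) t)) z).1
      (h C φK (ptK t))
    have h2 := congrArg lieR' h1
    rw [lieR'_Ad, lieR'_smul, lieR'_pullR, ptR_map, ptR_ptK, hα, ptR_ptK,
      show φK.restrictScalars R = φ from AlgHom.ext fun _ => rfl] at h2
    exact (tr_iff G φ (t ≫ i) _ (lieR' z)).2 h2
  · intro h C _ _ φ t
    letI : Algebra R C := ((algebraMap K C).comp (algebraMap R K)).toAlgebra
    haveI : IsScalarTower R K C := IsScalarTower.of_algebraMap_eq fun r => rfl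
    refine (tr_iff _ φ (t ≫ (Over.pullback (fB R K)).map i) _ z).2 (lieR'_bijective.1 ?_)
    rw [lieR'_Ad, lieR'_smul, lieR'_pullR, ptR_map]
    simp only [hα]
    exact (tr_iff G (φ.restrictScalars R) (ptR t ≫ i) _ (lieR' z)).1 (h C (φ.restrictScalars R) (ptR t))

end Groth.L06.RootOver
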