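import Groth.Agent.L06.RootOver.Main
import Groth.Agent.L08.Borel.CentBorel

/-!
# The dimension of the centraliser of the kernel of a root on the geometric fibres
-/

set_option autoImplicit false
set_option maxSynthPendingDepth 3
set_option linter.unusedSectionVars false
set_option linter.style.haveILetI false
set_option backward.isDefEq.respectTransparency.types false
set_option maxHeartbeats 1000000
set_option synthInstance.maxHeartbeats 200000

universe u v

open CategoryTheory CategoryTheory.Limits MonoidalCategory CartesianMonoidalCategory MonObj GrpObj AlgebraicGeometry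
open LieS Groth.L25 Groth.L06.Lie
open scoped TensorProduct

noncomputable section

namespace Groth.L06.RootOver

section Range

variable {B : Type u} [CommRing B] {V : Type*} [AddCommGroup V] [Module B V]

/-- the range of a sum of orthogonal projections -/
def rangeSum (p q r : V →ₗ[B] V) (hp : ∀ x, p (p x) = p x) (hq : ∀ x, q (q x) = q x) (hr : ∀ x, r (r x) = r x)
    (hpq : ∀ x, p (q x) = 0) (hpr : ∀ x, p (r x) = 0) (hqp : ∀ x, q (p x) = 0) (hqr : ∀ x, q (r x) = 0)
    (hrp : ∀ x, r (p x) = 0) (hrq : ∀ x, r (q x) = 0) :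
    LinearMap.range (p + q + r) ≃ₗ[B] (LinearMap.range p × LinearMap.range q) × LinearMap.range r where
  toFun x := ((⟨p x, ⟨x, rfl⟩⟩, ⟨q x, ⟨x, rfl⟩⟩), ⟨r x, ⟨x, rfl⟩⟩)
  map_add' x y := Prod.ext (Prod.ext (Subtype.ext (map_add p _ _)) (Subtype.ext (map_add q _ _)))
    (Subtype.ext (map_add r _ _))
  map_smul' c x := Prod.ext (Prod.ext (Subtype.ext (map_smul p _ _)) (Subtype.ext (map_smul q _ _)))
    (Subtype.ext (map_smul r _ _))
  invFun y := ⟨y.1.1.1 + y.1.2.1 + y.2.1, by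
    obtain ⟨⟨⟨_, a, rfl⟩, ⟨_, b, rfl⟩⟩, ⟨_, c, rfl⟩⟩ := y
    exact ⟨p a + q b + r c, by simp [hp, hq, hr, hpq, hpr, hqp, hqr, hrp, hrq]⟩⟩
  left_inv := fun ⟨_, x, rfl⟩ => Subtype.ext (by simp [hp, hq, hr, hpq, hpr, hqp, hqr, hrp, hrq])
  right_inv := fun ⟨⟨⟨_, a, rfl⟩, ⟨_, b, rfl⟩⟩, ⟨_, c, rfl⟩⟩ => by
    refine Prod.ext (Prod.ext (Subtype.ext ?_) (Subtype.ext ?_)) (Subtype.ext ?_) <;>
      simp [hp, hq, hr, hpq, hpr, hqp, hqr, hrp, hrq]

end Range

variable {R : Type u} [CommRing R] {G T : Over (Spec (CommRingCat.of R))} [GrpObj G] [GrpObj T]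
  [IsAffine G.left] [Smooth G.hom] {M : Type} [AddCommGroup M] [Module.Finite ℤ M] [Module.Free ℤ M]
  (d : T ≅ Red.DS (Spec (CommRingCat.of R)) M) [IsMonHom d.hom] (i : T ⟶ G) [IsMonHom i]
  {L : Type v} [LieRing L] [LieAlgebra R L] [Module.Finite R L] [Module.Projective R L]
  (mdl : LieS.Model G R (fB R R) L) (H : Hyp i d) {a : M} (ha : a ≠ 0)
  [hroot : Module.Invertible R (LinearMap.range ((torAct d i mdl).pi a))]
  {Ta : Over (Spec (CommRingCat.of R))} [GrpObj Ta] (j : Ta ⟶ T) [IsMonHom j] [Mono j]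
  {Z : Over (Spec (CommRingCat.of R))} [GrpObj Z] (z : Z ⟶ G) [IsMonHom z]

include H ha hroot in
theorem finrank_lie_centralizer (hz : Red.IsCentralizerOf (j ≫ i) z)
    (hjα : j ≫ d.hom ≫ Red.chi (Spec (CommRingCat.of R)) a = 1)
    (hmax : ∀ (T' : Over (Spec (CommRingCat.of R))) [GrpObj T'] (j' : T' ⟶ T) [IsMonHom j'] [Mono j'],
      Red.IsTorus T' → j' ≫ d.hom ≫ Red.chi (Spec (CommRingCat.of R)) a = 1 → ∃ f : T' ⟶ Ta, f ≫ j = j')
    (p : PrimeSpectrum R) :
    Module.finrank (geomFld (R := R) p) (LAR Z (geomFld (R := R) p)) = Module.finrank ℤ M + 2 := by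
  haveI : Mono z := hz.2.1
  let K := geomFld (R := R) p
  let D := torAct d i mdl
  let F : LAR Z K →ₗ[K] K ⊗[R] L := (lieE mdl K).symm.toLinearMap ∘ₗ mapL z
  have hF : Function.Injective F := (lieE mdl K).symm.injective.comp (mapL_injective z)
  have hQ : LinearMap.range F = LinearMap.range (Q d i mdl a K) := by
    refine Submodule.ext fun w => ?_
    have h := mem_centralizer_iff d i mdl H ha j z hz hjα hmax w
    constructor
    · rintro ⟨y, rfl⟩
      exact ⟨_, h.1 ⟨y.pnt, trivial, by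
        show _ = (lieE mdl K ((lieE mdl K).symm (mapL z y))).pnt
        rw [LinearEquiv.apply_symm_apply]
        rfl⟩⟩
    · rintro ⟨x, rfl⟩
      have hidem : Q d i mdl a K (Q d i mdl a K x) = Q d i mdl a K x := by
        simp only [Q, LinearMap.add_apply, map_add, D.piB_self K, D.piB_ne K ha, D.piB_ne K ha.symm,
          D.piB_ne K (neg_ne_zero.2 ha), D.piB_ne K (neg_ne_zero.2 ha).symm, D.piB_ne K (neg_ne_self ha),
          D.piB_ne K (neg_ne_self ha).symm, zero_add, add_zero, D]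
      obtain ⟨y, -, hy⟩ := h.2 hidem
      refine ⟨⟨y⟩, ?_⟩
      show (lieE mdl K).symm (mapL z ⟨y⟩) = _
      rw [LinearEquiv.symm_apply_eq]
      exact LA.ext hy
  rw [(LinearEquiv.ofInjective F hF).finrank_eq, hQ]
  rw [(rangeSum (P d i mdl K 0) (P d i mdl K a) (P d i mdl K (-a)) (D.piB_self K 0) (D.piB_self K a)
    (D.piB_self K (-a)) (D.piB_ne K ha.symm) (D.piB_ne K (neg_ne_zero.2 ha).symm) (D.piB_ne K ha)
    (D.piB_ne K (neg_ne_self ha)) (D.piB_ne K (neg_ne_zero.2 ha)) (D.piB_ne K (neg_ne_self ha).symm)).finrank_eq,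
    Module.finrank_prod, Module.finrank_prod]
  obtain ⟨h1, h2, h3, -⟩ := rk_facts d i mdl H ha p
  change rk d i mdl K 0 + rk d i mdl K a + rk d i mdl K (-a) = _
  rw [h1, h2, h3]

include H in
theorem krullDim_torus (s : Spec (CommRingCat.of R)) :
    topologicalKrullDim ↥(Red.geomFibre s T).left = (Module.finrank ℤ M : WithBot ℕ∞) := by
  show topologicalKrullDim ↥(Red.bc (Red.geomPt s) T).left = _
  rw [← fB_geomFld s]
  let e : Red.bc (fB R (geomFld s)) T ≅ Red.DS (Spec (CommRingCat.of (geomFld s))) (Fin (Module.finrank ℤ M) → ℤ) :=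
    (Over.pullback _).mapIso d ≪≫ dsBC ≪≫ (Grp.forget _).mapIso (Groth.L25.TorLift.dsCongr _ chBasis)
  exact (IsHomeomorph.topologicalKrullDim_eq _ (Scheme.homeoOfIso ((Over.forget _).mapIso e)).isHomeomorph).trans
    Groth.L08.Borel.dim_DS

include H ha hroot in
/-- **the centraliser of the kernel of a root has semisimple rank one on the geometric fibres** -/
theorem krullDim_centralizer (hTa : Red.IsTorus Ta) (hz : Red.IsCentralizerOf (j ≫ i) z)
    (hjα : j ≫ d.hom ≫ Red.chi (Spec (CommRingCat.of R)) a = 1)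
    (hmax : ∀ (T' : Over (Spec (CommRingCat.of R))) [GrpObj T'] (j' : T' ⟶ T) [IsMonHom j'] [Mono j'],
      Red.IsTorus T' → j' ≫ d.hom ≫ Red.chi (Spec (CommRingCat.of R)) a = 1 → ∃ f : T' ⟶ Ta, f ≫ j = j')
    (s : Spec (CommRingCat.of R)) :
    topologicalKrullDim ↥(Red.geomFibre s Z).left = topologicalKrullDim ↥(Red.geomFibre s T).left + 2 := by
  haveI := H.max.2.1
  let K := geomFld s
  rw [krullDim_torus d i H s]
  show topologicalKrullDim ↥(Red.bc (Red.geomPt s) Z).left = _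
  rw [← fB_geomFld s]
  obtain ⟨hG, hT⟩ := geom_props d i H s
  haveI := hG.1; haveI := hG.2.1; haveI := hG.2.2.1
  let iS := (Over.pullback (fB R K)).map (j ≫ i)
  haveI : Mono (j ≫ i) := mono_comp _ _
  haveI : IsMonHom iS := inferInstance
  haveI : Mono iS := inferInstance
  have hzK := Groth.L08.Borel.isCentralizerOf_bc (fB R K) hz
  obtain ⟨-, hA, hS, -, -, -⟩ := Groth.L08.Borel.centralizer_props (Groth.L25.Locus.isTorus_bc hTa (fB R K)) hzK
  haveI := hA; haveI := hS
  obtain ⟨E, _, _, ⟨eE⟩⟩ := Groth.L25.Bridge.exists_hopf (R := K) (Red.bc (fB R K) Z)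
  let eq : Red.bc (fB R K) Z ≅ Groth.L25.Bridge.P K E := (Grp.forget _).mapIso eE
  haveI : IsMonHom eq.hom := eE.hom.hom.isMonHom_hom
  rw [krullDim_eq_finrank_LA eq, (lieREquiv (R := R) (K := K) (G := Z)).finrank_eq,
    finrank_lie_centralizer d i mdl H ha j z hz hjα hmax s]
  push_cast
  rfl

end Groth.L06.RootOver
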