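import Mathlib.RingTheory.Smooth.Basic
import Mathlib.RingTheory.Kaehler.Basic
import Mathlib.RingTheory.Finiteness.Projective
import Mathlib.RingTheory.TensorProduct.Finite

/-!
# Tangent vectors at a point of a smooth algebra over a ring
-/

set_option autoImplicit false
set_option linter.unusedSectionVars false
set_option linter.style.haveILetI false
set_option backward.isDefEq.respectTransparency.types false

universe u

open TensorProduct KaehlerDifferential

noncomputable section

namespace Groth.L06.RootOver

variable {R A : Type u} [CommRing R] [CommRing A] [Algebra R A]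

/-- derivations at a point -/
def IsTg (ε : A →ₐ[R] R) {B : Type u} [CommRing B] [Algebra R B] (D : A →ₗ[R] B) : Prop :=
  ∀ a b, D (a * b) = ε a • D b + ε b • D a

/-- the module of derivations at a point -/
def TgS (ε : A →ₐ[R] R) (B : Type u) [CommRing B] [Algebra R B] : Submodule B (A →ₗ[R] B) where
  carrier := {D | IsTg ε D}
  add_mem' {D D'} h h' a b := by simp only [LinearMap.add_apply, h a b, h' a b, smul_add]; abel
  zero_mem' a b := by simp
  smul_mem' c {D} h a b := by simp only [LinearMap.smul_apply, h a b, smul_add, smul_comm c]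

theorem IsTg.map {ε : A →ₐ[R] R} {B B' : Type u} [CommRing B] [Algebra R B] [CommRing B'] [Algebra R B']
    {D : A →ₗ[R] B} (h : IsTg ε D) (φ : B →ₐ[R] B') : IsTg ε (φ.toLinearMap ∘ₗ D) :=
  fun a b => by simp only [LinearMap.comp_apply, h a b, map_add, map_smul]

/-- **finitely many tangent vectors with a dual family span all tangent vectors** -/
theorem exists_dualTg [Algebra.FormallySmooth R A] [Algebra.FiniteType R A] (ε : A →ₐ[R] R) :
    ∃ (n : ℕ) (y : Fin n → A) (δ : Fin n → (A →ₗ[R] R)), (∀ i, IsTg ε (δ i)) ∧
      ∀ (B : Type u) [CommRing B] [Algebra R B] (D : A →ₗ[R] B), IsTg ε D →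
        ∀ a, D a = ∑ i, D (y i) * algebraMap R B (δ i a) := by
  letI : Algebra A R := ε.toRingHom.toAlgebra
  haveI : IsScalarTower R A R := IsScalarTower.of_algebraMap_eq fun r => (ε.commutes r).symm
  haveI : Module.Projective A Ω[A⁄R] := Algebra.FormallySmooth.projective_kaehlerDifferential
  haveI : Module.Finite A Ω[A⁄R] := inferInstance
  have hsm : ∀ (a : A) (r : R), a • r = ε a * r := fun a r => rfl
  let dd : A →ₗ[R] R ⊗[A] Ω[A⁄R] :=
    ((TensorProduct.mk A R Ω[A⁄R] 1).restrictScalars R) ∘ₗ (KaehlerDifferential.D R A).toLinearMap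
  have hsmul : ∀ (a : A) (w : R ⊗[A] Ω[A⁄R]), a • w = ε a • w := fun a w => by
    induction w using TensorProduct.induction_on with
    | zero => simp
    | add u v hu hv => simp only [smul_add, hu, hv]
    | tmul r z => rw [TensorProduct.smul_tmul', TensorProduct.smul_tmul', hsm, smul_eq_mul]
  have hdd : ∀ a b, dd (a * b) = ε a • dd b + ε b • dd a := fun a b => by
    simp [dd, ← hsmul, TensorProduct.tmul_add]
  have hsurj : Function.Surjective dd := by
    rw [← LinearMap.range_eq_top, eq_top_iff]
    intro w hw
    clear hw
    induction w using TensorProduct.induction_on with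
    | zero => exact Submodule.zero_mem _
    | add u v hu hv => exact Submodule.add_mem _ hu hv
    | tmul r z =>
      rw [show r ⊗ₜ[A] z = r • ((1 : R) ⊗ₜ[A] z) by rw [TensorProduct.smul_tmul', smul_eq_mul, mul_one]]
      refine Submodule.smul_mem _ _ ?_
      clear r
      have hz : z ∈ Submodule.span A (Set.range (KaehlerDifferential.D R A)) := by
        rw [KaehlerDifferential.span_range_derivation]; trivial
      induction hz using Submodule.span_induction with
      | mem x hx => obtain ⟨a, rfl⟩ := hx; exact ⟨a, rfl⟩
      | zero => rw [TensorProduct.tmul_zero]; exact Submodule.zero_mem _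
      | add u v _ _ hu hv => rw [TensorProduct.tmul_add]; exact Submodule.add_mem _ hu hv
      | smul c u _ hu =>
        rw [TensorProduct.tmul_smul, hsmul]
        exact Submodule.smul_mem _ _ hu
  haveI : Module.Finite R (R ⊗[A] Ω[A⁄R]) := inferInstance
  haveI : Module.Projective R (R ⊗[A] Ω[A⁄R]) := inferInstance
  obtain ⟨n, f, g, -, -, hfg⟩ := Module.Finite.exists_comp_eq_id_of_projective R (R ⊗[A] Ω[A⁄R])
  choose y hy using fun i => hsurj (f (Pi.single i 1))
  refine ⟨n, y, fun i => LinearMap.proj i ∘ₗ g ∘ₗ dd, fun i a b => ?_, fun B _ _ D hD a => ?_⟩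
  · simp [hdd]
  · letI : Module A B := Module.compHom B ε.toRingHom
    haveI : IsScalarTower A R B := ⟨fun c r b => by
      show (c • r) • b = ε c • (r • b)
      rw [hsm, mul_smul]⟩
    haveI : IsScalarTower R A B := ⟨fun r c b => by
      show ε (r • c) • b = r • (ε c • b)
      rw [map_smul, smul_eq_mul, mul_smul]⟩
    let δD : Derivation R A B :=
      Derivation.mk' D fun a b => by
        show D (a * b) = ε a • D b + ε b • D a
        exact hD a b
    let l : R ⊗[A] Ω[A⁄R] →ₗ[R] B := LinearMap.liftBaseChange R δD.liftKaehlerDifferential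
    have hl : ∀ c, l (dd c) = D c := fun c => by
      simp [l, dd, δD]
    have e : dd a = ∑ i, g (dd a) i • dd (y i) := by
      conv_lhs => rw [← LinearMap.id_apply (R := R) (dd a), ← hfg, LinearMap.comp_apply, pi_eq_sum_univ' (g (dd a)),
        map_sum]
      simp [hy]
    rw [← hl a, e, map_sum]
    refine Finset.sum_congr rfl fun i _ => ?_
    rw [map_smul, hl, Algebra.smul_def, mul_comm]
    rfl

end Groth.L06.RootOver
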