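import Groth.Agent.L06.RootOver.BaseChange
import Groth.Agent.L06.RootLines.Roots
import Groth.Agent.L25.TorLift.TorusCov

/-!
# Weights on the geometric fibres of a reductive group with a split maximal torus
-/

set_option autoImplicit false
set_option maxSynthPendingDepth 3
set_option linter.unusedSectionVars false
set_option linter.style.haveILetI false
set_option backward.isDefEq.respectTransparency.types false
set_option maxHeartbeats 1000000
set_option synthInstance.maxHeartbeats 200000

universe u v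

open CategoryTheory CategoryTheory.Limits MonoidalCategory CartesianMonoidalCategory MonObj GrpObj AlgebraicGeometry
open LieS Groth.L25 Groth.L06.Lie
open Groth.L25.NilAction (toBase)
open Groth.L06.CoxeterElt
open Groth.L25.Bridge (P)
open Groth.L08.TorusQuot (sp SP ofPt exists_sp)
open scoped TensorProduct

noncomputable section

namespace Groth.L06.RootOver

section Compat

variable {R K : Type u} [CommRing R] [CommRing K] [Algebra R K] {M : Type} [AddCommGroup M]

/-- base change of diagonalisable groups -/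
def dsBC : Red.bc (fB R K) (Red.DS (Spec (CommRingCat.of R)) M) ≅ Red.DS (Spec (CommRingCat.of K)) M :=
  ActBC.bcCompIso (fB R K) (IsTerminal.from specULiftZIsTerminal _) (Red.diag (ULift.{u} ℤ) M)
    (specULiftZIsTerminal.hom_ext _ _)

instance : IsMonHom (dsBC (R := R) (K := K) (M := M)).hom := ActBC.bcCompIso_isMonHom ..

theorem char_dsBC {Y : Over (Spec (CommRingCat.of K))} (t : Y ⟶ Red.bc (fB R K) (Red.DS (Spec (CommRingCat.of R)) M)) :
    DSPts.char (t ≫ dsBC.hom) = DSPts.char (toBase (fB R K) t) := by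
  have h : DSPts.specPt (t ≫ dsBC.hom) = DSPts.specPt (toBase (fB R K) t) := by
    show (t.left ≫ dsBC.hom.left) ≫ pullback.fst (DSPts.GZ M).hom _ =
      (t.left ≫ pullback.fst _ (fB R K)) ≫ pullback.fst (DSPts.GZ M).hom _
    rw [Category.assoc, Category.assoc]
    congr 1
    exact ActBC.bcCompIso_hom_left_fst _ _ _ _
  refine MonoidHom.ext fun m => ?_
  show ((DSPts.coordIso M).inv ≫ (DSPts.specPt (t ≫ dsBC.hom)).appTop) (DSPts.mon M m) =
    ((DSPts.coordIso M).inv ≫ (DSPts.specPt (toBase (fB R K) t)).appTop) (DSPts.mon M m)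
  rw [h]

end Compat

section LieDim

variable {k : Type u} [Field k] {X : Over (Spec (CommRingCat.of k))} [GrpObj X] {E : Type u} [CommRing E]
  [HopfAlgebra k E] (eq : X ≅ P k E) [IsMonHom eq.hom]

include eq in
/-- the Lie algebra over a field is the space of tangent vectors -/
theorem finrank_LA : Module.finrank k (LA X k (fB k k)) = Module.finrank k (Groth.L06.RootLines.Tan k E) := by
  let F : LA X k (fB k k) →ₗ[k] Groth.L06.RootLines.Tan k E :=
    { toFun := fun z => ⟨Groth.L06.RootLines.wOf eq z.pnt.1, Groth.L06.RootLines.isTangent_wOf eq z.pnt⟩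
      map_add' := fun z z' => Subtype.ext (Groth.L06.RootLines.wOf_mul eq z.pnt z'.pnt)
      map_smul' := fun c z => Subtype.ext (Groth.L06.RootLines.wOf_smul eq c z.pnt) }
  have hinj : Function.Injective F := fun z z' h =>
    LA.ext (Groth.L06.RootLines.wOf_injective eq (congrArg Subtype.val h))
  have hsurj : Function.Surjective F := fun w =>
    ⟨⟨⟨Groth.L24.TorusField.liePt eq w.2, Groth.L24.TorusField.liePt_mem eq w.2⟩⟩, Subtype.ext (LinearMap.ext fun a => by
      show ((Groth.L24.TorusField.evAt eq (dptIso (R := k) k) (Groth.L24.TorusField.liePt eq w.2)).ofConv a).snd = _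
      rw [Groth.L24.TorusField.evAt_liePt]
      exact Groth.L24.TorusField.snd_dualPt w.2 a)⟩
  exact (LinearEquiv.ofBijective F ⟨hinj, hsurj⟩).finrank_eq

include eq in
/-- the dimension of a smooth affine group over a field is that of its Lie algebra -/
theorem krullDim_eq_finrank_LA [Smooth X.hom] :
    topologicalKrullDim X.left = (Module.finrank k (LA X k (fB k k)) : WithBot ℕ∞) := by
  haveI : IsIso eq.hom := eq.isIso_hom
  rw [finrank_LA eq]
  exact Groth.L06.RootLines.finrank_Tan_eq eq.hom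

end LieDim

section Transfer

variable {R K : Type u} [CommRing R] [Field K] [Algebra R K] {G T : Over (Spec (CommRingCat.of R))}
  [GrpObj G] [GrpObj T]

/-- Lie elements of a base change, linearly -/
def lieRLin : LA (Red.bc (fB R K) G) K (fB K K) →ₗ[K] LAR G K where
  toFun z := ⟨lieR' (B' := K) z.pnt⟩
  map_add' z z' := LA.ext (map_mul (lieR' (G := G) (B' := K) (R := R) (K := K)) z.pnt z'.pnt)
  map_smul' c z := LA.ext (lieR'_smul (G := G) (B' := K) c z.pnt)

theorem lieRLin_bijective : Function.Bijective (lieRLin (R := R) (K := K) (G := G)) := by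
  constructor
  · intro z z' h
    exact LA.ext ((lieR'_bijective (G := G) (B' := K)).1 (congrArg LA.pnt h))
  · intro x
    obtain ⟨z, hz⟩ := (lieR'_bijective (R := R) (K := K) (G := G) (B' := K)).2 x.pnt
    exact ⟨⟨z⟩, LA.ext hz⟩

/-- Lie algebra of a base change, linearly -/
def lieREquiv : LA (Red.bc (fB R K) G) K (fB K K) ≃ₗ[K] LAR G K :=
  LinearEquiv.ofBijective lieRLin lieRLin_bijective

theorem lieREquiv_pnt (z : LA (Red.bc (fB R K) G) K (fB K K)) : (lieREquiv z).pnt = lieR' z.pnt := rfl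

variable [IsAffine G.left] [Smooth G.hom] {M : Type} [AddCommGroup M] (d : T ≅ Red.DS (Spec (CommRingCat.of R)) M)
  [IsMonHom d.hom] (i : T ⟶ G) [IsMonHom i] {L : Type v} [LieRing L] [LieAlgebra R L]
  (mdl : LieS.Model G R (fB R R) L)

theorem finrank_range_pi [Module.Finite R L] (m : M) (αK : Red.bc (fB R K) T ⟶ Red.Gm (Spec (CommRingCat.of K)))
    (hα : ∀ (C : Type u) [CommRing C] [Algebra R C] [Algebra K C] [IsScalarTower R K C]
      (t : VecGrp.pt K C ⟶ Red.bc (fB R K) T), VecGrp.chiVal αK t = valS d (ptR t) (Multiplicative.ofAdd m)) :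
    Module.finrank K (LieWt.modelWeightSpOf (Groth.L06.Lie.model (Red.bc (fB R K) G) K (fB K K))
        ((Over.pullback (fB R K)).map i) αK) =
      Module.finrank K (LinearMap.range (((torAct d i mdl).pi m).baseChange K)) := by
  let Ψ : LA (Red.bc (fB R K) G) K (fB K K) ≃ₗ[K] K ⊗[R] L := lieREquiv.trans (lieE mdl K).symm
  let α : T ⟶ Red.Gm (Spec (CommRingCat.of R)) := d.hom ≫ Red.chi (Spec (CommRingCat.of R)) m
  have key : ∀ z, z ∈ LieWt.modelWeightSpOf (Groth.L06.Lie.model (Red.bc (fB R K) G) K (fB K K))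
      ((Over.pullback (fB R K)).map i) αK ↔ Ψ z ∈ LinearMap.range (((torAct d i mdl).pi m).baseChange K) := by
    intro z
    show z.pnt ∈ LieWt.weightSpOf ((Over.pullback (fB R K)).map i) αK K ↔ _
    rw [mem_weightSpOf_bc_iff i α αK (fun C _ _ _ _ t => by rw [hα, chiVal_eq]) z.pnt,
      show lieR' z.pnt = (lieE mdl K (Ψ z)).pnt by
        show _ = (lieE mdl K ((lieE mdl K).symm (lieREquiv z))).pnt
        rw [LinearEquiv.apply_symm_apply, lieREquiv_pnt],
      mem_weightSpOf_iff d i mdl K m (fun B' _ _ t => chiVal_eq d m t)]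
    exact ⟨fun h => ⟨_, h⟩, fun ⟨y, hy⟩ => by rw [← hy, TorAct.piB_self]⟩
  exact (Ψ.ofSubmodules _ _ (by
    refine le_antisymm ?_ fun w hw => ⟨Ψ.symm w, (key _).2 (by simpa using hw), by simp⟩
    rintro _ ⟨z, hz, rfl⟩
    exact (key z).1 hz)).finrank_eq

end Transfer

section Facts

variable {R K : Type u} [CommRing R] [Field K] [IsAlgClosed K] [Algebra R K] {G T : Over (Spec (CommRingCat.of R))}
  [GrpObj G] [GrpObj T] [IsAffine G.left] [Smooth G.hom] {M : Type} [AddCommGroup M]
  (d : T ≅ Red.DS (Spec (CommRingCat.of R)) M) [IsMonHom d.hom] (i : T ⟶ G) [IsMonHom i]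
  {L : Type v} [LieRing L] [LieAlgebra R L] [Module.Finite R L] (mdl : LieS.Model G R (fB R R) L)

/-- the rank of a weight space on a fibre -/
abbrev rk (K : Type u) [Field K] [Algebra R K] (m : M) : ℕ :=
  Module.finrank K (LinearMap.range (((torAct d i mdl).pi m).baseChange K))

/-- **the weights on a geometric fibre along the line of a root** -/
theorem fibre_facts (hG : Red.IsReductiveOver K (Red.bc (fB R K) G))
    (hT : AGF.IsMaxTorus ((Over.pullback (fB R K)).map i)) {r : ℕ} (b : M ≃+ (Fin r → ℤ)) {a : M} (ha : a ≠ 0)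
    (hroot : rk d i mdl K a ≠ 0) :
    rk d i mdl K a = 1 ∧ rk d i mdl K (-a) = 1 ∧ rk d i mdl K 0 = r ∧
      ∀ m, m ≠ 0 → m ≠ a → m ≠ -a → (∀ f : M →+ ℤ, f a = 0 → f m = 0) → rk d i mdl K m = 0 := by
  classical
  haveI := hG.1; haveI := hG.2.1
  haveI := hT.1; haveI := hT.2.1
  -- the torus of the fibre
  let g : Grp.mk (Red.DS (Spec (CommRingCat.of K)) (Fin r → ℤ)) ≅ Grp.mk (Red.DS (Spec (CommRingCat.of K)) M) :=
    Groth.L25.TorLift.dsCongr _ b.symm
  let g' : Red.DS (Spec (CommRingCat.of K)) (Fin r → ℤ) ≅ Red.DS (Spec (CommRingCat.of K)) M :=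
    (Grp.forget _).mapIso g
  haveI : IsMonHom g'.hom := g.hom.hom.isMonHom_hom
  let e : TT K r ≅ Red.bc (fB R K) T :=
    asIso (Groth.L06.RootLines.toDS K r) ≪≫ g' ≪≫ dsBC.symm ≪≫ (Over.pullback (fB R K)).mapIso d.symm
  haveI : IsMonHom ((Over.pullback (fB R K)).map d.inv) := inferInstance
  haveI : IsMonHom (dsBC (R := R) (K := K) (M := M)).inv := inferInstance
  haveI : IsMonHom e.hom :=
    inferInstanceAs (IsMonHom (Groth.L06.RootLines.toDS K r ≫ g'.hom ≫ dsBC.inv ≫ (Over.pullback (fB R K)).map d.inv))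
  haveI : IsMonHom e.inv := inferInstance
  obtain ⟨A, _, _, ⟨eA⟩⟩ := Groth.L25.Bridge.exists_hopf (R := K) (Red.bc (fB R K) G)
  let eq : Red.bc (fB R K) G ≅ P K A := (Grp.forget _).mapIso eA
  haveI : IsMonHom eq.hom := eA.hom.hom.isMonHom_hom
  haveI : IsIso eq.hom := eq.isIso_hom
  obtain ⟨hft, -⟩ := Groth.L06.RootLines.smooth_props eq.hom
  haveI := hft
  let iK := (Over.pullback (fB R K)).map i
  let iT : TT K r ⟶ Red.bc (fB R K) G := e.hom ≫ iK
  obtain ⟨φ, hφ⟩ := exists_sp (e.hom ≫ iK ≫ eq.hom)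
  haveI : IsIso e.hom := e.isIso_hom
  have hmax : AGF.IsMaxTorus iT := ⟨inferInstance, inferInstance, Groth.L06.CoxeterElt.isTorus_TT K r,
    fun T' _ j _ _ f hT' hf => by
      haveI := hT.2.2.2 T' j (e.inv ≫ f) hT' (by rw [Category.assoc, hf, Iso.inv_hom_id_assoc])
      exact IsIso.of_isIso_comp_left e.inv f⟩
  haveI := hmax.1; haveI := hmax.2.1
  -- the characters
  have hα : ∀ (n : M) (C : Type u) [CommRing C] [Algebra R C] [Algebra K C] [IsScalarTower R K C]
      (t : VecGrp.pt K C ⟶ Red.bc (fB R K) T),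
      VecGrp.chiVal (e.inv ≫ Groth.L06.RootLines.chT K (b n)) t = valS d (ptR t) (Multiplicative.ofAdd n) := by
    intro n C _ _ _ _ t
    let p0 : VecGrp.pt K C ≅ SP K C := Over.isoMk (Iso.refl (Spec (CommRingCat.of C))) (Category.id_comp _)
    let t' : SP K C ⟶ TT K r := p0.inv ≫ t ≫ e.inv
    show (Scheme.ΓSpecIso (CommRingCat.of C)).hom (Red.gmFn (t ≫ e.inv ≫ Groth.L06.RootLines.chT K (b n))) =
      valS d (ptR t) (Multiplicative.ofAdd n)
    have h1 : Red.gmFn (t ≫ e.inv ≫ Groth.L06.RootLines.chT K (b n)) =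
        DSPts.char ((t ≫ e.inv) ≫ Groth.L06.RootLines.toDS K r) (Multiplicative.ofAdd (b n)) := by
      rw [← Category.assoc, Groth.L06.RootLines.chT, ← Category.assoc, gmFn_chi]
    have h3 : g'.hom = Red.DSmap (Spec (CommRingCat.of K)) b.toAddMonoidHom := rfl
    have h2 : DSPts.char ((t ≫ e.inv) ≫ Groth.L06.RootLines.toDS K r) (Multiplicative.ofAdd (b n)) =
        DSPts.char (toBase (fB R K) t ≫ d.hom) (Multiplicative.ofAdd n) := by
      have e1 : ((t ≫ e.inv) ≫ Groth.L06.RootLines.toDS K r) ≫ g'.hom =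
          (t ≫ (Over.pullback (fB R K)).map d.hom) ≫ dsBC.hom := by
        simp [e]
      have e2 : DSPts.char (((t ≫ e.inv) ≫ Groth.L06.RootLines.toDS K r) ≫ g'.hom) =
          DSPts.char (toBase (fB R K) t ≫ d.hom) := by
        rw [e1, char_dsBC, Groth.L08.Borel.toBase_map']
      rw [← e2, h3, SplitSub.char_DSmap]
      rfl
    rw [h1, h2]
    show _ = (Scheme.ΓSpecIso (CommRingCat.of C)).hom (DSPts.char (ptR t ≫ d.hom) (Multiplicative.ofAdd n))
    rw [ptR, Category.assoc, DSPts.char_comp]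
    congr 1
  have hrk : ∀ n, rk d i mdl K n = Module.finrank K (Groth.L06.RootLines.Wt φ (b n)) := fun n => by
    rw [← Groth.L06.RootLines.finrank_modelWeightSpOf (eq := eq) e hφ (b n)
      (Groth.L06.Lie.model (Red.bc (fB R K) G) K (fB K K))]
    exact (finrank_range_pi d i mdl n _ (hα n)).symm
  have hφ' : sp φ = iT ≫ eq.hom := by rw [hφ, Category.assoc]
  have hb : b a ≠ 0 := fun h => ha (b.injective (h.trans b.map_zero.symm))
  haveI : ∀ m, Module.Finite K (Groth.L06.RootLines.Wt φ m) := fun m =>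
    Submodule.finiteDimensional_of_le (Groth.L06.RootLines.Wt_le φ m)
  have hW : Groth.L06.RootLines.Wt φ (b a) ≠ ⊥ := fun h => hroot (by rw [hrk, h, finrank_bot])
  obtain ⟨h1, h2, -⟩ := Groth.L06.RootLines.root_line eq.hom hG hmax hφ' hb hW
  obtain ⟨r', p, a₀, hp, ha₀, hker, hpa, -⟩ := Groth.L14.Luna.SemiRank.exists_line_proj hb
  haveI : IsIso eq.hom.left := inferInstanceAs (IsIso ((Over.forget _).map eq.hom))
  haveI : LocallyOfFiniteType (Red.bc (fB R K) G).hom := inferInstance
  haveI : QuasiCompact (Red.bc (fB R K) G).hom := quasiCompact_of_compactSpace _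
  haveI : IsClosedImmersion iT.left :=
    Groth.L25.Locus.isClosedImmersion_of_mono
      (Groth.L25.Locus.locally_of_multTypeFT (Groth.L25.Locus.isMultTypeFT_of_isTorus hmax.2.2.1)) iT
  have hφs : Function.Surjective φ := by
    haveI : IsClosedImmersion (sp φ).left := by
      rw [hφ']; exact inferInstanceAs (IsClosedImmersion (iT.left ≫ eq.hom.left))
    exact Groth.L06.RootLines.surjective_of_closedImm
  have h0 := Groth.L06.RootLines.rank_le_finrank_Wt_zero φ hφs
  have hsum := fun S hS => Groth.L06.RootLines.sum_finrank_le_of_line eq.hom hG hmax hφ' p hp ha₀ hker hb hpa hW S hS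
  have hna : b a ≠ -b a := fun h => hb (funext fun i => by
    have h' : b a i = -b a i := congrFun h i
    simp only [Pi.zero_apply]; omega)
  have hS3 : Module.finrank K (Groth.L06.RootLines.Wt φ 0) +
      (Module.finrank K (Groth.L06.RootLines.Wt φ (b a)) + Module.finrank K (Groth.L06.RootLines.Wt φ (-b a))) ≤ r + 2 := by
    have h := hsum {0, b a, -b a} (by simp [hpa])
    rwa [Finset.sum_insert (by simp [hb.symm, (neg_ne_zero.2 hb).symm]), Finset.sum_pair hna] at h
  refine ⟨by rw [hrk, h1], by rw [hrk, map_neg, h2], by rw [hrk, map_zero]; omega, fun m h3 h4 h5 h6 => ?_⟩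
  have hpm : p (b m) = 0 := funext fun i => by
    have := h6 (((Pi.evalAddMonoidHom (fun _ => ℤ) i).comp p).comp b.toAddMonoidHom) (by
      simpa using congrFun hpa i)
    simpa using this
  have hm0 : b m ≠ 0 := fun h => h3 (b.injective (h.trans b.map_zero.symm))
  have hma : b m ≠ b a := fun h => h4 (b.injective h)
  have hmn : b m ≠ -b a := fun h => h5 (b.injective (h.trans (map_neg b a).symm))
  have h := hsum {0, b a, -b a, b m} (by simp [hpa, hpm])
  rw [Finset.sum_insert (by simp [hb.symm, (neg_ne_zero.2 hb).symm, hm0.symm]),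
    Finset.sum_insert (by simp [hna, hma.symm]), Finset.sum_pair hmn.symm] at h
  rw [hrk]
  omega

end Facts

end Groth.L06.RootOver
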