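import Mathlib.Algebra.MonoidAlgebra.Basic
import Mathlib.LinearAlgebra.DirectSum.Finsupp
import Mathlib.LinearAlgebra.TensorProduct.Tower
import Mathlib.RingTheory.TensorProduct.Finite
import Mathlib.RingTheory.Finiteness.Projective
import Groth.Prelude.Def_VecGrp

/-!
# Characters acting on a module: the grading over a ring
-/

set_option autoImplicit false
set_option linter.unusedSectionVars false
set_option linter.style.haveILetI false
set_option backward.isDefEq.respectTransparency.types false
set_option maxHeartbeats 1000000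

universe u v

open TensorProduct AddMonoidAlgebra
open VecGrp (Wmap)

noncomputable section

namespace Groth.L06.RootOver

/-- an action of the points of a diagonalisable group on `W(L)` -/
structure TorAct (R : Type u) [CommRing R] (M : Type) [AddCommGroup M] (L : Type v) [AddCommGroup L] [Module R L] where
  act : ∀ (B : Type u) [CommRing B] [Algebra R B], (Multiplicative M →* B) → (B ⊗[R] L →ₗ[B] B ⊗[R] L)
  natural : ∀ {B B' : Type u} [CommRing B] [Algebra R B] [CommRing B'] [Algebra R B'] (φ : B →ₐ[R] B')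
    (χ : Multiplicative M →* B) (x : B ⊗[R] L),
    Wmap φ (act B χ x) = act B' ((φ : B →* B').comp χ) (Wmap φ x)
  act_one : ∀ (B : Type u) [CommRing B] [Algebra R B] (x : B ⊗[R] L), act B 1 x = x
  act_mul : ∀ (B : Type u) [CommRing B] [Algebra R B] (χ χ' : Multiplicative M →* B) (x : B ⊗[R] L),
    act B (χ * χ') x = act B χ (act B χ' x)

variable {R : Type u} [CommRing R] {M : Type} [AddCommGroup M] {L : Type v} [AddCommGroup L] [Module R L]

open Classical in
/-- coefficients of elements of `R[M] ⊗ L` -/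
def cEquiv (R : Type u) [CommRing R] (M : Type) (L : Type v) [AddCommGroup L] [Module R L] :
    AddMonoidAlgebra R M ⊗[R] L ≃ₗ[R] (M →₀ L) :=
  TensorProduct.congr (AddMonoidAlgebra.coeffLinearEquiv R) (LinearEquiv.refl R L) ≪≫ₗ
    TensorProduct.finsuppScalarLeft R L M

theorem cEquiv_single (m : M) (c : R) (x : L) : cEquiv R M L (single m c ⊗ₜ x) = Finsupp.single m (c • x) := by
  simp [cEquiv, TensorProduct.finsuppScalarLeft_apply_tmul]

theorem cEquiv_symm_single (m : M) (x : L) : (cEquiv R M L).symm (Finsupp.single m x) = single m 1 ⊗ₜ x := by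
  rw [LinearEquiv.symm_apply_eq, cEquiv_single, one_smul]

/-- coefficients over a test algebra -/
def cf (B : Type u) [CommRing B] [Algebra R B] (N : Type) (n : N) :
    AddMonoidAlgebra B N ⊗[R] L →ₗ[R] B ⊗[R] L :=
  ((Finsupp.lapply n) ∘ₗ (AddMonoidAlgebra.coeffLinearEquiv (M := N) (S := B) R).toLinearMap).rTensor L

theorem cf_single_smul {N : Type} [AddCommGroup N] (B : Type u) [CommRing B] [Algebra R B] [DecidableEq N]
    (m n : N) (y : B ⊗[R] L) :
    cf B N n ((single m (1 : B)) • Wmap (IsScalarTower.toAlgHom R B (AddMonoidAlgebra B N)) y) =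
      if m = n then y else 0 := by
  induction y using TensorProduct.induction_on with
  | zero => simp
  | add a b ha hb =>
    rw [map_add, smul_add, map_add, ha, hb]
    split_ifs <;> simp
  | tmul b x =>
    rw [VecGrp.Wmap_tmul, TensorProduct.smul_tmul', cf, LinearMap.rTensor_tmul]
    simp only [IsScalarTower.coe_toAlgHom', AddMonoidAlgebra.coe_algebraMap, Function.comp_apply,
      Algebra.algebraMap_self, RingHom.id_apply, smul_eq_mul, single_mul_single, add_zero, one_mul,
      LinearMap.comp_apply, LinearEquiv.coe_coe, Finsupp.lapply_apply]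
    split_ifs with h
    · simp [h]
    · simp [h]

namespace TorAct

variable (D : TorAct R M L)

/-- the universal character -/
abbrev univ (R : Type u) [CommRing R] (M : Type) [AddCommGroup M] : Multiplicative M →* AddMonoidAlgebra R M :=
  AddMonoidAlgebra.of R M

/-- the coaction -/
def coact : L →ₗ[R] (M →₀ L) :=
  (cEquiv R M L).toLinearMap ∘ₗ
    ((D.act (AddMonoidAlgebra R M) (univ R M)).restrictScalars R) ∘ₗ TensorProduct.mk R (AddMonoidAlgebra R M) L 1

/-- the component of a weight -/
def pi (m : M) : L →ₗ[R] L := Finsupp.lapply m ∘ₗ D.coact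

theorem pi_apply (m : M) (x : L) : D.pi m x = D.coact x m := rfl

theorem act_tmul_sum (B : Type u) [CommRing B] [Algebra R B] (χ : Multiplicative M →* B) (x : L) :
    D.act B χ (1 ⊗ₜ x) = (D.coact x).sum fun m y => χ (Multiplicative.ofAdd m) ⊗ₜ[R] y := by
  let f : AddMonoidAlgebra R M →ₐ[R] B := AddMonoidAlgebra.lift R B M χ
  have hf : ((f : AddMonoidAlgebra R M →* B).comp (univ R M)) = χ :=
    MonoidHom.ext fun m => by simp [f]
  have h := D.natural f (univ R M) (1 ⊗ₜ x)
  rw [hf, VecGrp.Wmap_tmul, map_one] at h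
  rw [← h]
  have e : D.act (AddMonoidAlgebra R M) (univ R M) (1 ⊗ₜ x) =
      (D.coact x).sum fun m y => single m 1 ⊗ₜ[R] y := by
    conv_lhs => rw [show D.act (AddMonoidAlgebra R M) (univ R M) (1 ⊗ₜ x) = (cEquiv R M L).symm (D.coact x) from
      ((cEquiv R M L).symm_apply_apply _).symm]
    conv_lhs => rw [← Finsupp.sum_single (D.coact x), Finsupp.sum, map_sum]
    exact Finset.sum_congr rfl fun m _ => cEquiv_symm_single m _
  rw [e, Finsupp.sum, map_sum]
  refine Finset.sum_congr rfl fun m _ => ?_
  rw [VecGrp.Wmap_tmul]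
  congr 1
  simp [f, AddMonoidAlgebra.lift_single]

theorem exists_supp [Module.Finite R L] : ∃ F : Finset M, ∀ m, m ∉ F → D.pi m = 0 := by
  classical
  obtain ⟨n, g, hg⟩ := Module.Finite.exists_fin (R := R) (M := L)
  refine ⟨Finset.univ.biUnion fun j => (D.coact (g j)).support, fun m hm => LinearMap.ext_on_range hg fun j => ?_⟩
  rw [LinearMap.zero_apply, pi_apply]
  by_contra h
  exact hm (Finset.mem_biUnion.2 ⟨j, Finset.mem_univ _, Finsupp.mem_support_iff.2 h⟩)

/-- the support of the grading -/
def supp [Module.Finite R L] : Finset M := D.exists_supp.choose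

theorem pi_eq_zero [Module.Finite R L] {m : M} (h : m ∉ D.supp) : D.pi m = 0 := D.exists_supp.choose_spec m h

variable [Module.Finite R L]

theorem act_tmul (B : Type u) [CommRing B] [Algebra R B] (χ : Multiplicative M →* B) (x : L) :
    D.act B χ (1 ⊗ₜ x) = ∑ m ∈ D.supp, χ (Multiplicative.ofAdd m) ⊗ₜ[R] D.pi m x := by
  rw [act_tmul_sum, Finsupp.sum_of_support_subset]
  · rfl
  · intro m hm
    by_contra h
    exact Finsupp.mem_support_iff.1 hm (by rw [← pi_apply, D.pi_eq_zero h]; rfl)
  · exact fun m _ => TensorProduct.tmul_zero _ _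

theorem act_eq (B : Type u) [CommRing B] [Algebra R B] (χ : Multiplicative M →* B) :
    D.act B χ = ∑ m ∈ D.supp, χ (Multiplicative.ofAdd m) • (D.pi m).baseChange B := by
  refine TensorProduct.AlgebraTensorModule.curry_injective (LinearMap.ext_ring (LinearMap.ext fun x => ?_))
  simp [D.act_tmul, TensorProduct.smul_tmul']

theorem sum_pi (x : L) : ∑ m ∈ D.supp, D.pi m x = x := by
  have h := D.act_tmul R 1 x
  rw [D.act_one] at h
  have h' := congrArg (TensorProduct.lid R L) h
  simpa using h'.symm

theorem pi_pi [DecidableEq M] (m n : M) (x : L) : D.pi m (D.pi n x) = if m = n then D.pi n x else 0 := by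
  classical
  let χ₁ : Multiplicative M →* AddMonoidAlgebra R (M × M) :=
    (univ R (M × M)).comp (AddMonoidHom.inl M M).toMultiplicative
  let χ₂ : Multiplicative M →* AddMonoidAlgebra R (M × M) :=
    (univ R (M × M)).comp (AddMonoidHom.inr M M).toMultiplicative
  have h12 : ∀ i j, χ₁ (Multiplicative.ofAdd i) * χ₂ (Multiplicative.ofAdd j) =
      (single (i, j) 1 : AddMonoidAlgebra R (M × M)) := fun i j => by
    simp [χ₁, χ₂, single_mul_single]
  have h := D.act_mul _ χ₁ χ₂ (1 ⊗ₜ x)
  rw [D.act_tmul] at h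
  rw [D.act_tmul _ χ₂, map_sum] at h
  have hr : ∀ j, D.act (AddMonoidAlgebra R (M × M)) χ₁ (χ₂ (Multiplicative.ofAdd j) ⊗ₜ[R] D.pi j x) =
      ∑ i ∈ D.supp, (single (i, j) 1 : AddMonoidAlgebra R (M × M)) ⊗ₜ[R] D.pi i (D.pi j x) := fun j => by
    rw [show χ₂ (Multiplicative.ofAdd j) ⊗ₜ[R] D.pi j x =
      χ₂ (Multiplicative.ofAdd j) • ((1 : AddMonoidAlgebra R (M × M)) ⊗ₜ[R] D.pi j x) by
        rw [TensorProduct.smul_tmul', smul_eq_mul, mul_one], map_smul, D.act_tmul, Finset.smul_sum]
    refine Finset.sum_congr rfl fun i _ => ?_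
    rw [TensorProduct.smul_tmul', smul_eq_mul, mul_comm, h12]
  have h' := congrArg (fun z => cEquiv R (M × M) L z (m, n)) h
  simp only [hr, map_sum, Finsupp.finsetSum_apply, MonoidHom.mul_apply, h12, cEquiv_single, one_smul,
    Finsupp.single_apply, Prod.mk.injEq] at h'
  have hL : (∑ i ∈ D.supp, if i = m ∧ i = n then D.pi i x else 0) = if m = n then D.pi n x else 0 := by
    by_cases hmn : m = n
    · subst hmn
      simp only [and_self, Finset.sum_ite_eq', if_true]
      split_ifs with hs
      · rfl
      · rw [D.pi_eq_zero hs]; rfl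
    · rw [if_neg hmn]
      exact Finset.sum_eq_zero fun i _ => if_neg fun e => hmn (e.1.symm.trans e.2)
  have hR : (∑ j ∈ D.supp, ∑ i ∈ D.supp, if i = m ∧ j = n then D.pi i (D.pi j x) else 0) = D.pi m (D.pi n x) := by
    rw [Finset.sum_eq_single n (fun j _ hj => Finset.sum_eq_zero fun i _ => if_neg fun e => hj e.2) fun hn => ?_]
    · rw [Finset.sum_eq_single m (fun i _ hi => if_neg fun e => hi e.1) fun hm => ?_, if_pos ⟨rfl, rfl⟩]
      rw [D.pi_eq_zero hm]
      simp
    · rw [D.pi_eq_zero hn]
      simp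
  rw [hL, hR] at h'
  exact h'.symm

theorem pi_self (m : M) (x : L) : D.pi m (D.pi m x) = D.pi m x := by
  classical rw [D.pi_pi, if_pos rfl]

theorem pi_ne {m n : M} (h : m ≠ n) (x : L) : D.pi m (D.pi n x) = 0 := by
  classical rw [D.pi_pi, if_neg h]

variable (B : Type u) [CommRing B] [Algebra R B]

theorem sum_piB (x : B ⊗[R] L) : ∑ m ∈ D.supp, (D.pi m).baseChange B x = x := by
  induction x using TensorProduct.induction_on with
  | zero => simp
  | add a b ha hb => simp only [map_add, Finset.sum_add_distrib, ha, hb]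
  | tmul b y => simp only [LinearMap.baseChange_tmul, ← TensorProduct.tmul_sum, D.sum_pi]

theorem piB_self (m : M) (x : B ⊗[R] L) :
    (D.pi m).baseChange B ((D.pi m).baseChange B x) = (D.pi m).baseChange B x := by
  induction x using TensorProduct.induction_on with
  | zero => simp
  | add a b ha hb => simp only [map_add, ha, hb]
  | tmul b y => simp only [LinearMap.baseChange_tmul, D.pi_self]

theorem piB_ne {m n : M} (h : m ≠ n) (x : B ⊗[R] L) :
    (D.pi m).baseChange B ((D.pi n).baseChange B x) = 0 := by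
  induction x using TensorProduct.induction_on with
  | zero => simp
  | add a b ha hb => simp only [map_add, ha, hb, add_zero]
  | tmul b y => simp only [LinearMap.baseChange_tmul, D.pi_ne h, TensorProduct.tmul_zero]

theorem piB_eq_zero {m : M} (h : m ∉ D.supp) (x : B ⊗[R] L) : (D.pi m).baseChange B x = 0 := by
  rw [D.pi_eq_zero h, LinearMap.baseChange_zero, LinearMap.zero_apply]

theorem act_apply (χ : Multiplicative M →* B) (x : B ⊗[R] L) :
    D.act B χ x = ∑ m ∈ D.supp, χ (Multiplicative.ofAdd m) • (D.pi m).baseChange B x := by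
  rw [D.act_eq]; simp

/-- the elements of weight `a` -/
def HasWt (a : M) (x : B ⊗[R] L) : Prop :=
  ∀ (B' : Type u) [CommRing B'] [Algebra R B'] (φ : B →ₐ[R] B') (χ : Multiplicative M →* B'),
    D.act B' χ (Wmap φ x) = χ (Multiplicative.ofAdd a) • Wmap φ x

variable {B}

theorem hasWt_piB (a : M) (x : B ⊗[R] L) : D.HasWt B a ((D.pi a).baseChange B x) := by
  intro B' _ _ φ χ
  rw [D.act_apply, Finset.sum_eq_single a ?_ ?_, VecGrp.baseChange_natural, D.piB_self]
  · intro m _ hm
    rw [VecGrp.baseChange_natural, D.piB_ne B' hm, smul_zero]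
  · intro ha
    rw [D.piB_eq_zero B' ha, smul_zero]

theorem piB_eq_zero_of_hasWt {a m : M} (h : m ≠ a) {x : B ⊗[R] L} (hx : D.HasWt B a x) :
    (D.pi m).baseChange B x = 0 := by
  classical
  have e := hx (AddMonoidAlgebra B M) (IsScalarTower.toAlgHom R B _) (AddMonoidAlgebra.of B M)
  rw [D.act_apply] at e
  simp only [← VecGrp.baseChange_natural, AddMonoidAlgebra.of_apply, toAdd_ofAdd] at e
  have e' := congrArg (cf B M m) e
  rw [map_sum, cf_single_smul, if_neg h.symm] at e'
  simp only [cf_single_smul, Finset.sum_ite_eq'] at e'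
  split_ifs at e' with hm
  · exact e'
  · exact D.piB_eq_zero B hm x

theorem hasWt_iff (a : M) (x : B ⊗[R] L) : D.HasWt B a x ↔ (D.pi a).baseChange B x = x := by
  refine ⟨fun hx => ?_, fun h => h ▸ D.hasWt_piB a x⟩
  conv_rhs => rw [← D.sum_piB B x]
  rw [Finset.sum_eq_single a (fun m _ hm => D.piB_eq_zero_of_hasWt hm hx) fun ha => D.piB_eq_zero B ha x]

theorem eq_zero_of_fixed {M' : Type} [AddCommGroup M'] (p : M →+ M') {x : B ⊗[R] L}
    (hx : ∀ (B' : Type u) [CommRing B'] [Algebra R B'] (φ : B →ₐ[R] B') (χ : Multiplicative M' →* B'),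
      D.act B' (χ.comp p.toMultiplicative) (Wmap φ x) = Wmap φ x)
    {m : M} (hm : p m ≠ 0) : (D.pi m).baseChange B x = 0 := by
  classical
  have e := hx (AddMonoidAlgebra B M') (IsScalarTower.toAlgHom R B _) (AddMonoidAlgebra.of B M')
  rw [D.act_apply] at e
  simp only [← VecGrp.baseChange_natural, MonoidHom.comp_apply, AddMonoidHom.toMultiplicative_apply_apply,
    AddMonoidAlgebra.of_apply, toAdd_ofAdd] at e
  rw [← one_smul (AddMonoidAlgebra B M') (Wmap (IsScalarTower.toAlgHom R B _) x), AddMonoidAlgebra.one_def] at e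
  have e' := congrArg (cf B M' (p m)) e
  rw [map_sum, cf_single_smul, if_neg (Ne.symm hm)] at e'
  simp only [cf_single_smul] at e'
  have e'' := congrArg ((D.pi m).baseChange B) e'
  rw [map_sum, map_zero] at e''
  by_cases hs : m ∈ D.supp
  · rw [Finset.sum_eq_single m (fun n _ hn => ?_) fun h => absurd hs h, if_pos rfl, D.piB_self] at e''
    · exact e''
    · split_ifs
      · exact D.piB_ne B hn.symm x
      · exact map_zero _
  · exact D.piB_eq_zero B hs x

theorem pi_finite_projective [Module.Projective R L] (m : M) :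
    Module.Finite R (LinearMap.range (D.pi m)) ∧ Module.Projective R (LinearMap.range (D.pi m)) :=
  ⟨inferInstance, Module.Projective.of_split (LinearMap.range (D.pi m)).subtype (D.pi m).rangeRestrict
    (LinearMap.ext fun ⟨_, x, hx⟩ => Subtype.ext (by subst hx; exact D.pi_self m x))⟩

variable (B)

theorem finrank_baseChange_range (m : M) :
    Module.finrank B (B ⊗[R] LinearMap.range (D.pi m)) =
      Module.finrank B (LinearMap.range ((D.pi m).baseChange B)) := by
  let s := ((LinearMap.range (D.pi m)).subtype).baseChange B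
  let q := ((D.pi m).rangeRestrict).baseChange B
  have hqs : q ∘ₗ s = LinearMap.id := by
    rw [← LinearMap.baseChange_comp, show (D.pi m).rangeRestrict ∘ₗ (LinearMap.range (D.pi m)).subtype = LinearMap.id
      from LinearMap.ext fun ⟨_, x, hx⟩ => Subtype.ext (by subst hx; exact D.pi_self m x), LinearMap.baseChange_id]
  have hsq : s ∘ₗ q = (D.pi m).baseChange B := by
    rw [← LinearMap.baseChange_comp, LinearMap.subtype_comp_codRestrict]
  have hs : Function.Injective s := Function.LeftInverse.injective (g := q) fun y => LinearMap.congr_fun hqs y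
  rw [← hsq, LinearMap.range_comp, LinearMap.range_eq_top.2
    (Function.RightInverse.surjective (g := s) fun y => LinearMap.congr_fun hqs y), Submodule.map_top]
  exact (LinearEquiv.ofInjective s hs).finrank_eq

end TorAct

end Groth.L06.RootOver
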