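import Groth.Agent.L06.Lie.Model
import Groth.Agent.L06.RootOver.DualTg
import Groth.Prelude.Def_LieWt

/-!
# The Lie algebra of a smooth affine group over a ring commutes with base change
-/

set_option autoImplicit false
set_option maxSynthPendingDepth 3
set_option linter.unusedSectionVars false
set_option linter.style.haveILetI false
set_option backward.isDefEq.respectTransparency.types false
set_option backward.isDefEq.respectTransparency false
set_option maxHeartbeats 1000000

universe u v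

open CategoryTheory MonoidalCategory CartesianMonoidalCategory MonObj GrpObj AlgebraicGeometry
open LieS Groth.L20.Pinch Groth.L09.Patch Groth.L06.Lie TensorProduct

noncomputable section

namespace Groth.L06.RootOver

variable {R : Type u} [CommRing R]



/-- the structure map of a test algebra -/
abbrev fB (R : Type u) [CommRing R] (B : Type u) [CommRing B] [Algebra R B] :
    Spec (CommRingCat.of B) ⟶ Spec (CommRingCat.of R) :=
  Spec.map (CommRingCat.ofHom (algebraMap R B))

/-- the spectrum of an algebra over the base -/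
abbrev Af (R : Type u) [CommRing R] (A : Type u) [CommRing A] [Algebra R A] : Over (Spec (CommRingCat.of R)) :=
  Over.mk (fB R A)

section Pull

variable {B B' : Type u} [CommRing B] [Algebra R B] [CommRing B'] [Algebra R B']

/-- base change of dual numbers -/
def dptMapR (φ : B →ₐ[R] B') : dpt B' (fB R B') ⟶ dpt B (fB R B) :=
  Over.homMk (sp (bcHom φ.toRingHom)) (by
    show sp (bcHom φ.toRingHom) ≫ sp (algebraMap B (DualNumber B)) ≫ sp (algebraMap R B) =
      sp (algebraMap B' (DualNumber B')) ≫ sp (algebraMap R B')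
    rw [← Category.assoc, sp_comp, sp_comp, sp_comp, bcHom_comp_algebraMap]
    congr 1
    exact RingHom.ext fun r => congrArg (algebraMap B' (DualNumber B')) (φ.commutes r))

theorem zeroSec_dptMapR (φ : B →ₐ[R] B') :
    zeroSec B' (fB R B') ≫ dptMapR φ = VecGrp.ptMap φ ≫ zeroSec B (fB R B) :=
  Over.OverMorphism.ext ((sp_comp _ _).trans ((congrArg sp (fstHom_comp_bcHom φ.toRingHom)).trans (sp_comp _ _).symm))

theorem dptMapR_proj (φ : B →ₐ[R] B') :
    dptMapR φ ≫ proj B (fB R B) = proj B' (fB R B') ≫ VecGrp.ptMap φ :=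
  Over.OverMorphism.ext ((sp_comp _ _).trans ((congrArg sp (bcHom_comp_algebraMap φ.toRingHom)).trans (sp_comp _ _).symm))

theorem dptMapR_scale (φ : B →ₐ[R] B') (b : B) :
    dptMapR φ ≫ scale B (fB R B) b = scale B' (fB R B') (φ b) ≫ dptMapR φ :=
  Over.OverMorphism.ext ((sp_comp _ _).trans
    ((congrArg sp (Groth.L06.Lie.bcHom_comp_scaleHom φ.toRingHom b)).trans (sp_comp _ _).symm))

variable (G : Over (Spec (CommRingCat.of R))) [GrpObj G]

/-- base change of Lie elements between test algebras -/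
def pullR (φ : B →ₐ[R] B') : LieR G B →* LieR G B' where
  toFun z := ⟨dptMapR φ ≫ z.1, by
    rw [mem_Lie_iff, ← Category.assoc, zeroSec_dptMapR, Category.assoc, (mem_Lie_iff G B _ z.1).1 z.2,
      MonObj.comp_one]⟩
  map_one' := Subtype.ext (MonObj.comp_one _)
  map_mul' z z' := Subtype.ext (MonObj.comp_mul _ _ _)

theorem pullR_val (φ : B →ₐ[R] B') (z : LieR G B) : (pullR G φ z).1 = dptMapR φ ≫ z.1 := rfl

theorem pullR_smul (φ : B →ₐ[R] B') (b : B) (z : LieR G B) : pullR G φ (b • z) = φ b • pullR G φ z :=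
  Subtype.ext (by rw [pullR_val, smul_val, smul_val, pullR_val, ← Category.assoc, dptMapR_scale, Category.assoc])

theorem pullR_Ad (φ : B →ₐ[R] B') (g : VecGrp.pt R B ⟶ G) (z : LieR G B) :
    pullR G φ (Ad G B (fB R B) g z) = Ad G B' (fB R B') (VecGrp.ptMap φ ≫ g) (pullR G φ z) :=
  Subtype.ext (by
    show dptMapR φ ≫ ((proj B (fB R B) ≫ g) * z.1 * (proj B (fB R B) ≫ g)⁻¹) = _
    rw [MonObj.comp_mul, MonObj.comp_mul, GrpObj.comp_inv, ← Category.assoc (dptMapR φ) (proj B (fB R B)),
      dptMapR_proj, Category.assoc]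
    rfl)

end Pull

section Co

theorem sp_inj {C D : Type u} [CommRing C] [CommRing D] {a b : C →+* D} (h : sp a = sp b) : a = b :=
  congrArg CommRingCat.Hom.hom (Spec.map_injective h)

variable {G : Over (Spec (CommRingCat.of R))} {A : Type u} [CommRing A] [Algebra R A] (eq : G ≅ Af R A)

/-- coordinates of a point -/
def co {C : Type u} [CommRing C] {f : Spec (CommRingCat.of C) ⟶ (Spec (CommRingCat.of R))} (z : Over.mk f ⟶ G) : A →+* C :=
  (Spec.preimage (z ≫ eq.hom).left).hom

theorem sp_co {C : Type u} [CommRing C] {f : Spec (CommRingCat.of C) ⟶ (Spec (CommRingCat.of R))} (z : Over.mk f ⟶ G) :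
    sp (co eq z) = (z ≫ eq.hom).left :=
  Spec.map_preimage _

theorem co_comp {C C' : Type u} [CommRing C] [CommRing C'] {f : Spec (CommRingCat.of C) ⟶ (Spec (CommRingCat.of R))}
    {f' : Spec (CommRingCat.of C') ⟶ (Spec (CommRingCat.of R))} (h : Over.mk f' ⟶ Over.mk f) (ψ : C →+* C') (hh : h.left = sp ψ)
    (z : Over.mk f ⟶ G) : co eq (h ≫ z) = ψ.comp (co eq z) := by
  refine sp_inj ?_
  show sp (co eq (h ≫ z)) = sp (ψ.comp (co eq z))
  rw [← sp_comp, sp_co, sp_co, ← hh, Category.assoc]
  rfl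

theorem co_injective {C : Type u} [CommRing C] {f : Spec (CommRingCat.of C) ⟶ (Spec (CommRingCat.of R))} :
    Function.Injective (co eq (f := f) : (Over.mk f ⟶ G) → _) := fun z z' h => by
  have e := congrArg sp h
  rw [sp_co, sp_co] at e
  exact (cancel_mono eq.hom).1 (Over.OverMorphism.ext e)

theorem co_commutes {C : Type u} [CommRing C] {f : Spec (CommRingCat.of C) ⟶ (Spec (CommRingCat.of R))} (z : Over.mk f ⟶ G)
    {g : R →+* C} (hg : f = sp g) : (co eq z).comp (algebraMap R A) = g := by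
  refine sp_inj ?_
  show sp ((co eq z).comp (algebraMap R A)) = sp g
  rw [← sp_comp, sp_co, ← hg]
  exact Over.w (z ≫ eq.hom)

theorem exists_co {C : Type u} [CommRing C] {f : Spec (CommRingCat.of C) ⟶ (Spec (CommRingCat.of R))} {g : R →+* C} (hg : f = sp g)
    (ψ : A →+* C) (hψ : ψ.comp (algebraMap R A) = g) : ∃ z : Over.mk f ⟶ G, co eq z = ψ := by
  let h : Over.mk f ⟶ Af R A := Over.homMk (sp ψ) (by
    show sp ψ ≫ sp (algebraMap R A) = f
    rw [sp_comp, hψ, hg])
  refine ⟨h ≫ eq.inv, sp_inj ?_⟩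
  show sp (co eq (h ≫ eq.inv)) = sp ψ
  rw [sp_co, Category.assoc, eq.inv_hom_id, Category.comp_id]
  rfl

variable [GrpObj G]

/-- the counit -/
def eps : A →ₐ[R] R :=
  { co eq (1 : VecGrp.pt R R ⟶ G) with
    commutes' := fun r => DFunLike.congr_fun (co_commutes eq (1 : VecGrp.pt R R ⟶ G) (g := algebraMap R R) rfl) r }

theorem co_one (B : Type u) [CommRing B] [Algebra R B] (a : A) :
    co eq (1 : VecGrp.pt R B ⟶ G) a = algebraMap R B (eps eq a) := by
  rw [← MonObj.comp_one (VecGrp.ptMap (Algebra.ofId R B))]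
  exact DFunLike.congr_fun (co_comp eq (VecGrp.ptMap (Algebra.ofId R B)) (algebraMap R B) rfl _) a

variable {B : Type u} [CommRing B] [Algebra R B]

/-- coordinates of a dual number point -/
def coD (z : dpt B (fB R B) ⟶ G) : A →+* DualNumber B :=
  co eq (C := DualNumber B) (f := sp (algebraMap B (DualNumber B)) ≫ fB R B) z

theorem coD_commutes (z : dpt B (fB R B) ⟶ G) (r : R) :
    coD eq z (algebraMap R A r) = algebraMap B (DualNumber B) (algebraMap R B r) :=
  DFunLike.congr_fun (co_commutes eq (C := DualNumber B) (f := sp (algebraMap B (DualNumber B)) ≫ fB R B) z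
    (g := (algebraMap B (DualNumber B)).comp (algebraMap R B)) (sp_comp _ _)) r

theorem fst_coD (z : LieR G B) (a : A) : (coD eq z.1 a).fst = algebraMap R B (eps eq a) := by
  have h := co_comp eq (f := sp (algebraMap B (DualNumber B)) ≫ fB R B) (f' := fB R B) (zeroSec B (fB R B))
    (TrivSqZeroExt.fstHom B B B).toRingHom rfl z.1
  have h1 : zeroSec B (fB R B) ≫ z.1 = 1 := (mem_Lie_iff G B _ z.1).1 z.2
  rw [← co_one eq B a]
  exact (DFunLike.congr_fun h a).symm.trans (congrArg (fun t : VecGrp.pt R B ⟶ G => co eq t a) h1)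

/-- the tangent vector of a Lie element -/
def tv (z : LieR G B) : A →ₗ[R] B where
  toFun a := (coD eq z.1 a).snd
  map_add' a b := by rw [map_add, TrivSqZeroExt.snd_add]
  map_smul' r a := by
    rw [Algebra.smul_def, map_mul, TrivSqZeroExt.snd_mul, coD_commutes, Groth.L06.Lie.algebraMap_fst,
      Groth.L06.Lie.algebraMap_snd, RingHom.id_apply]
    simp [Algebra.smul_def]

theorem tv_apply (z : LieR G B) (a : A) : tv eq z a = (coD eq z.1 a).snd := rfl

theorem isTg_tv (z : LieR G B) : IsTg (eps eq) (tv eq z) := fun a b => by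
  rw [tv_apply, map_mul, TrivSqZeroExt.snd_mul, fst_coD, fst_coD, tv_apply, tv_apply]
  simp [Algebra.smul_def, mul_comm]

theorem tv_injective : Function.Injective (tv eq : LieR G B → _) := fun z z' h => by
  refine Subtype.ext (co_injective eq (C := DualNumber B) (f := sp (algebraMap B (DualNumber B)) ≫ fB R B)
    (RingHom.ext fun a => TrivSqZeroExt.ext ?_ (LinearMap.congr_fun h a)))
  exact (fst_coD eq z a).trans (fst_coD eq z' a).symm

theorem tv_smul (b : B) (z : LieR G B) : tv eq (b • z) = b • tv eq z := by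
  refine LinearMap.ext fun a => ?_
  have h := co_comp eq (f := sp (algebraMap B (DualNumber B)) ≫ fB R B)
    (f' := sp (algebraMap B (DualNumber B)) ≫ fB R B) (scale B (fB R B) b) (scaleHom b) rfl z.1
  show (coD eq (scale B (fB R B) b ≫ z.1) a).snd = _
  rw [show coD eq (scale B (fB R B) b ≫ z.1) = (scaleHom b).comp (coD eq z.1) from h, RingHom.comp_apply,
    Groth.L06.Lie.scaleHom_snd]
  rfl

theorem tv_pullR {B' : Type u} [CommRing B'] [Algebra R B'] (φ : B →ₐ[R] B') (z : LieR G B) :
    tv eq (pullR G φ z) = φ.toLinearMap ∘ₗ tv eq z := by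
  refine LinearMap.ext fun a => ?_
  have h := co_comp eq (f := sp (algebraMap B (DualNumber B)) ≫ fB R B)
    (f' := sp (algebraMap B' (DualNumber B')) ≫ fB R B') (dptMapR φ) (bcHom φ.toRingHom) rfl z.1
  show (coD eq (dptMapR φ ≫ z.1) a).snd = _
  rw [show coD eq (dptMapR φ ≫ z.1) = (bcHom φ.toRingHom).comp (coD eq z.1) from h, RingHom.comp_apply,
    Groth.L06.Lie.bcHom_snd]
  rfl

theorem tv_mul (z z' : LieR G B) : tv eq (z * z') = tv eq z + tv eq z' := by
  refine LinearMap.ext fun a => ?_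
  let w : wpt B (fB R B) ⟶ G := qq (fB R B) 1 0 ≫ z.1 * qq (fB R B) 0 1 ≫ z'.1
  obtain ⟨h1, h2⟩ := pair_restrict (u := z.1) (v := z'.1) z.2 z'.2
  have hS : axS B (fB R B) ≫ w = z.1 * z'.1 := by
    show axS B (fB R B) ≫ (qq (fB R B) 1 0 ≫ z.1 * qq (fB R B) 0 1 ≫ z'.1) = z.1 * z'.1
    rw [MonObj.comp_mul, ← Category.assoc, ← Category.assoc (axS B (fB R B)), axS_qq, axS_qq, add_zero, zero_add,
      Groth.L06.Lie.scale_one, Category.id_comp, Category.id_comp]
  let g : A →+* W B := co eq (C := W B) (f := sp (jW B) ≫ fB R B) w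
  have e : ∀ (x : dpt B (fB R B) ⟶ wpt B (fB R B)) (ψ : W B →+* DualNumber B) (_ : x.left = sp ψ)
      (y : dpt B (fB R B) ⟶ G), x ≫ w = y → (coD eq y a).snd = (ψ (g a)).snd := fun x ψ hx y hy => by
    have h := co_comp eq (f := sp (jW B) ≫ fB R B) (f' := sp (algebraMap B (DualNumber B)) ≫ fB R B) x ψ hx w
    rw [← hy]
    exact congrArg TrivSqZeroExt.snd (DFunLike.congr_fun h a)
  show (coD eq (z.1 * z'.1) a).snd = (coD eq z.1 a).snd + (coD eq z'.1 a).snd
  rw [e (axS B (fB R B)) (pS B) rfl _ hS, e (ax1 B (fB R B)) (p1 B) rfl _ h1, e (ax2 B (fB R B)) (p2 B) rfl _ h2,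
    pS_snd, p1_snd, p2_snd]

theorem exists_tv (D : A →ₗ[R] B) (hD : IsTg (eps eq) D) : ∃ z : LieR G B, tv eq z = D := by
  have h1 : D 1 = 0 := by
    have h := hD 1 1
    rw [_root_.mul_one, map_one (eps eq), one_smul] at h
    exact left_eq_add.1 h
  let ψ : A →+* DualNumber B :=
    { toFun := fun a => TrivSqZeroExt.inl (algebraMap R B (eps eq a)) + TrivSqZeroExt.inr (D a)
      map_one' := TrivSqZeroExt.ext (by simp) (by simp [h1])
      map_mul' := fun a b => TrivSqZeroExt.ext (by simp) (by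
        simp [hD a b, Algebra.smul_def, mul_comm])
      map_zero' := TrivSqZeroExt.ext (by simp) (by simp)
      map_add' := fun a b => TrivSqZeroExt.ext (by simp) (by simp) }
  have hψ : ψ.comp (algebraMap R A) = (algebraMap B (DualNumber B)).comp (algebraMap R B) :=
    RingHom.ext fun r => TrivSqZeroExt.ext (by simp [ψ]) (by
      simp [ψ, Algebra.algebraMap_eq_smul_one (A := A), h1])
  obtain ⟨z, hz⟩ := exists_co eq (C := DualNumber B) (f := sp (algebraMap B (DualNumber B)) ≫ fB R B)
    (g := (algebraMap B (DualNumber B)).comp (algebraMap R B)) (sp_comp _ _) ψ hψ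
  have hmem : z ∈ LieR G B := by
    rw [mem_Lie_iff]
    refine co_injective eq (f := fB R B) (RingHom.ext fun a => ?_)
    have h := DFunLike.congr_fun (co_comp eq (f := sp (algebraMap B (DualNumber B)) ≫ fB R B) (f' := fB R B)
      (zeroSec B (fB R B)) (TrivSqZeroExt.fstHom B B B).toRingHom rfl z) a
    refine h.trans ?_
    rw [hz, co_one]
    simp [ψ]
  exact ⟨⟨z, hmem⟩, LinearMap.ext fun a => by
    show (coD eq z a).snd = D a
    rw [show coD eq z = ψ from hz]
    simp [ψ]⟩

variable (B)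

/-- the additive model -/
abbrev LAR (G : Over (Spec (CommRingCat.of R))) [GrpObj G] (B : Type u) [CommRing B] [Algebra R B] : Type u :=
  Groth.L06.Lie.LA G B (fB R B)

/-- tangent vectors of Lie elements, linearly -/
def tvLin : LAR G B →ₗ[B] TgS (R := R) (A := A) (eps eq) B where
  toFun z := ⟨tv eq z.pnt, isTg_tv eq z.pnt⟩
  map_add' z z' := Subtype.ext (tv_mul eq (B := B) z.pnt z'.pnt)
  map_smul' b z := Subtype.ext (tv_smul eq (B := B) b z.pnt)

theorem tvLin_bijective : Function.Bijective (tvLin eq B) := by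
  constructor
  · intro z z' h
    exact LA.ext (tv_injective eq (congrArg Subtype.val h))
  · intro D
    obtain ⟨z, hz⟩ := exists_tv eq D.1 D.2
    exact ⟨⟨z⟩, Subtype.ext hz⟩

/-- tangent vectors and Lie elements -/
def tvEquiv : LAR G B ≃ₗ[B] TgS (eps eq) B :=
  LinearEquiv.ofBijective (tvLin eq B) (tvLin_bijective eq B)

theorem tvEquiv_apply (z : LAR G B) : (tvEquiv eq B z).1 = tv eq z.pnt := rfl

end Co

section Main

variable {G : Over (Spec (CommRingCat.of R))} [GrpObj G] {L : Type v} [LieRing L] [LieAlgebra R L]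

/-- **Lie algebras of smooth affine groups commute with base change** -/
theorem exists_lieEquiv [IsAffine G.left] [Smooth G.hom] (mdl : LieS.Model G R (fB R R) L) :
    Module.Finite R L ∧ Module.Projective R L ∧
      ∀ (B : Type u) [CommRing B] [Algebra R B], ∃ Φ : B ⊗[R] L ≃ₗ[B] LAR G B,
        ∀ x : L, (Φ (1 ⊗ₜ x)).pnt = pullR G (Algebra.ofId R B) (mdl.e (Multiplicative.ofAdd x)) := by
  let A : Type u := Γ(G.left, ⊤)
  let g : R →+* A := ((Scheme.ΓSpecIso (CommRingCat.of R)).inv ≫ G.hom.appTop).hom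
  letI : Algebra R A := g.toAlgebra
  have hw : G.left.isoSpec.hom ≫ Spec.map (CommRingCat.ofHom (algebraMap R A)) = G.hom := by
    show G.left.isoSpec.hom ≫ Spec.map ((Scheme.ΓSpecIso (CommRingCat.of R)).inv ≫ G.hom.appTop) = G.hom
    rw [Spec.map_comp, Scheme.isoSpec_hom, ← Category.assoc, ← Scheme.toSpecΓ_naturality, Category.assoc]
    simp [← SpecMap_ΓSpecIso_hom, ← Spec.map_comp]
  let eq : G ≅ Af R A := Over.isoMk G.left.isoSpec hw
  have hsm : Smooth (Af R A).hom := by
    rw [← Over.w eq.inv]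
    haveI : IsIso eq.inv.left := inferInstanceAs (IsIso ((Over.forget _).map eq.inv))
    infer_instance
  change Smooth (Spec.map (CommRingCat.ofHom (algebraMap R A))) at hsm
  rw [HasRingHomProperty.Spec_iff (P := @Smooth), CommRingCat.hom_ofHom, RingHom.smooth_algebraMap] at hsm
  haveI := hsm
  obtain ⟨n, y, δ, hδ, hdual⟩ := exists_dualTg (eps eq)
  let tL : L →ₗ[R] (A →ₗ[R] R) :=
    { toFun := fun x => tv eq (mdl.e (Multiplicative.ofAdd x))
      map_add' := fun x x' => by rw [ofAdd_add, map_mul, tv_mul]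
      map_smul' := fun c x => by rw [mdl.e_smul, tv_smul]; rfl }
  have htL : Function.Injective tL := fun x x' h =>
    Multiplicative.ofAdd.injective (mdl.e.injective (tv_injective eq h))
  have htg : ∀ x, IsTg (eps eq) (tL x) := fun x => isTg_tv eq _
  choose ℓ hℓ using fun i : Fin n => (show ∃ x, tL x = δ i by
    obtain ⟨z, hz⟩ := exists_tv eq (δ i) (hδ i)
    exact ⟨Multiplicative.toAdd (mdl.e.symm z), by
      show tv eq (mdl.e (Multiplicative.ofAdd (Multiplicative.toAdd (mdl.e.symm z)))) = δ i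
      rw [ofAdd_toAdd, MulEquiv.apply_symm_apply, hz]⟩)
  have hrep : ∀ x, ∑ i, tL x (y i) • ℓ i = x := fun x => htL (LinearMap.ext fun a => by
    rw [hdual R (tL x) (htg x) a, map_sum, LinearMap.sum_apply]
    simp [hℓ])
  let s : L →ₗ[R] (Fin n → R) := LinearMap.pi fun i => (LinearMap.applyₗ (y i)) ∘ₗ tL
  let q : (Fin n → R) →ₗ[R] L := Fintype.linearCombination R ℓ
  have hqs : ∀ x, q (s x) = x := fun x => by
    rw [Fintype.linearCombination_apply]
    exact hrep x
  refine ⟨Module.Finite.of_surjective q fun x => ⟨s x, hqs x⟩,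
    Module.Projective.of_split s q (LinearMap.ext hqs), fun B _ _ => ?_⟩
  let tB : L →ₗ[R] TgS (eps eq) B :=
    { toFun := fun x => ⟨(Algebra.ofId R B).toLinearMap ∘ₗ tL x, (htg x).map (Algebra.ofId R B)⟩
      map_add' := fun x x' => Subtype.ext (by simp [LinearMap.comp_add])
      map_smul' := fun c x => Subtype.ext (by simp [LinearMap.comp_smul]) }
  let Ψ : B ⊗[R] L →ₗ[B] TgS (eps eq) B := tB.liftBaseChange B
  let Ξ : TgS (eps eq) B → B ⊗[R] L := fun D => ∑ i, D.1 (y i) ⊗ₜ[R] ℓ i
  have hΞΨ : ∀ w, Ξ (Ψ w) = w := fun w => by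
    induction w using TensorProduct.induction_on with
    | zero => simp [Ξ]
    | add a b ha hb =>
      simp only [Ξ, map_add, Submodule.coe_add, LinearMap.add_apply, TensorProduct.add_tmul, Finset.sum_add_distrib]
      exact congrArg₂ (· + ·) ha hb
    | tmul b x =>
      conv_rhs => rw [← hrep x, TensorProduct.tmul_sum]
      refine Finset.sum_congr rfl fun i _ => ?_
      rw [TensorProduct.tmul_smul, TensorProduct.smul_tmul']
      congr 1
      simp [Ψ, tB, Algebra.smul_def, mul_comm]
  have hΨΞ : ∀ D, Ψ (Ξ D) = D := fun D => Subtype.ext (LinearMap.ext fun a => by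
    rw [hdual B D.1 D.2 a]
    simp [Ξ, Ψ, tB, hℓ, map_sum, LinearMap.sum_apply])
  refine ⟨(LinearEquiv.ofBijective Ψ ⟨Function.LeftInverse.injective hΞΨ, Function.RightInverse.surjective hΨΞ⟩).trans
    (tvEquiv eq B).symm, fun x => tv_injective eq ?_⟩
  rw [← tvEquiv_apply, tv_pullR, LinearEquiv.trans_apply, LinearEquiv.apply_symm_apply]
  show ((tB.liftBaseChange B) (1 ⊗ₜ x)).1 = _
  rw [LinearMap.liftBaseChange_tmul, one_smul]
  rfl

end Main

end Groth.L06.RootOver
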