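import Mathlib.RingTheory.PicardGroup
import Mathlib.RingTheory.LocalRing.Module
import Mathlib.RingTheory.LocalProperties.Submodule
import Mathlib.RingTheory.Spectrum.Prime.FreeLocus
import Mathlib.RingTheory.Localization.BaseChange
import Mathlib.LinearAlgebra.Dimension.Free

/-!
# Ranks of projective modules on fibres
-/

set_option autoImplicit false
set_option linter.style.haveILetI false
set_option backward.isDefEq.respectTransparency.types false

universe u v

open TensorProduct

noncomputable section

namespace Groth.L06.RootOver

variable {R : Type u} [CommRing R]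

/-- the dimension of a fibre only depends on the prime -/
theorem finrank_fibre (p : PrimeSpectrum R) (K : Type u) [Field K] [Algebra R K]
    (hker : ∀ x : R, algebraMap R K x = 0 ↔ x ∈ p.asIdeal) (N : Type v) [AddCommGroup N] [Module R N] :
    Module.finrank K (K ⊗[R] N) = Module.finrank p.asIdeal.ResidueField (p.asIdeal.ResidueField ⊗[R] N) := by
  let φ : p.asIdeal.ResidueField →+* K :=
    Ideal.ResidueField.lift p.asIdeal (algebraMap R K) (fun x hx => RingHom.mem_ker.2 ((hker x).2 hx))
      fun x hx => isUnit_iff_ne_zero.2 fun h => hx ((hker x).1 h)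
  letI : Algebra p.asIdeal.ResidueField K := φ.toAlgebra
  haveI : IsScalarTower R p.asIdeal.ResidueField K :=
    IsScalarTower.of_algebraMap_eq fun r => (Ideal.ResidueField.lift_algebraMap _ _ _ _ _).symm
  let e : K ⊗[p.asIdeal.ResidueField] (p.asIdeal.ResidueField ⊗[R] N) ≃ₗ[K] K ⊗[R] N :=
    AlgebraTensorModule.cancelBaseChange R p.asIdeal.ResidueField K K N
  rw [← e.finrank_eq, Module.finrank_baseChange]

/-- a linear map which is surjective on the fibres is surjective -/
theorem surjective_of_fibres {V : Type*} {W : Type v} [AddCommGroup V] [Module R V] [AddCommGroup W] [Module R W]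
    [Module.Finite R W] (f : V →ₗ[R] W)
    (h : ∀ p : PrimeSpectrum R, ∃ (K : Type u) (_ : Field K) (_ : Algebra R K),
      (∀ x : R, algebraMap R K x = 0 ↔ x ∈ p.asIdeal) ∧ Function.Surjective (f.baseChange K)) :
    Function.Surjective f := by
  rw [← LinearMap.range_eq_top, ← Submodule.Quotient.subsingleton_iff,
    ← Module.support_eq_empty_iff (R := R), Set.eq_empty_iff_forall_notMem]
  intro p hp
  rw [Module.mem_support_iff_nontrivial_residueField_tensorProduct] at hp
  obtain ⟨K, _, _, hker, hs⟩ := h p
  let q := (LinearMap.range f).mkQ.baseChange K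
  have hq : Function.Surjective q := LinearMap.lTensor_surjective K (Submodule.mkQ_surjective _)
  have h0 : q ∘ₗ f.baseChange K = 0 := by
    rw [← LinearMap.baseChange_comp, LinearMap.range_mkQ_comp, LinearMap.baseChange_zero]
  haveI : Subsingleton (K ⊗[R] (W ⧸ LinearMap.range f)) := subsingleton_of_forall_eq 0 fun x => by
    obtain ⟨y, rfl⟩ := hq x
    obtain ⟨z, rfl⟩ := hs y
    exact LinearMap.congr_fun h0 z
  have h1 := finrank_fibre p K hker (W ⧸ LinearMap.range f)
  rw [Module.finrank_zero_of_subsingleton] at h1
  exact (not_nontrivial_iff_subsingleton.2 (Module.finrank_zero_iff.1 h1.symm)) hp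

variable (N : Type v) [AddCommGroup N] [Module R N] [Module.Finite R N] [Module.Projective R N]

/-- a finite projective module whose fibres vanish vanishes -/
theorem subsingleton_of_rank_zero (h : ∀ p : PrimeSpectrum R, Module.rankAtStalk N p = 0) : Subsingleton N :=
  Module.rankAtStalk_eq_zero_iff_subsingleton.1 (funext h)

attribute [local instance] Module.free_of_flat_of_isLocalRing in
/-- **finite projective modules of rank one are invertible** -/
theorem invertible_of_rank_one (h : ∀ p : PrimeSpectrum R, Module.rankAtStalk N p = 1) : Module.Invertible R N := by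
  classical
  have key : ∀ (g : N →ₗ[R] R) (x y : N), g x • y = g y • x := by
    intro g x y
    refine Module.eq_of_localization_maximal (fun P _ => Localization.AtPrime P ⊗[R] N)
      (fun P _ => TensorProduct.mk R (Localization.AtPrime P) N 1) _ _ fun P _ => ?_
    let A := Localization.AtPrime P
    have hr : Module.finrank A (A ⊗[R] N) = 1 := by
      have := h ⟨P, inferInstance⟩
      rwa [Module.rankAtStalk_eq_finrank_tensorProduct] at this
    obtain ⟨e⟩ := Module.nonempty_linearEquiv_iff_finrank_eq_one.2 hr
    let g' : A ⊗[R] N →ₗ[A] A := (Algebra.TensorProduct.rid R A A).toLinearMap ∘ₗ g.baseChange A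
    have hg : ∀ n : N, g' (1 ⊗ₜ n) = algebraMap R A (g n) := fun n => by
      simp [g', Algebra.smul_def]
    have e1 : ∀ n m : N, (TensorProduct.mk R A N 1) (g n • m) = g' (1 ⊗ₜ n) • ((1 : A) ⊗ₜ[R] m) := fun n m => by
      rw [hg, algebraMap_smul, TensorProduct.mk_apply, TensorProduct.tmul_smul]
    rw [e1, e1]
    obtain ⟨c, hc⟩ := e.surjective ((1 : A) ⊗ₜ[R] x)
    obtain ⟨c', hc'⟩ := e.surjective ((1 : A) ⊗ₜ[R] y)
    have he : ∀ a : A, e a = a • e 1 := fun a => by rw [← map_smul, smul_eq_mul, mul_one]
    rw [← hc, ← hc', he c, he c', map_smul, map_smul, smul_smul, smul_smul, smul_eq_mul, smul_eq_mul]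
    congr 1
    ring
  obtain ⟨n, f, g, -, -, hfg⟩ := Module.Finite.exists_comp_eq_id_of_projective R N
  let gi : Fin n → (N →ₗ[R] R) := fun i => LinearMap.proj i ∘ₗ g
  let xi : Fin n → N := fun i => f (Pi.single i 1)
  have hrep : ∀ y : N, ∑ i, gi i y • xi i = y := fun y => by
    conv_rhs => rw [← LinearMap.id_apply (R := R) y, ← hfg, LinearMap.comp_apply, pi_eq_sum_univ' (g y), map_sum]
    simp [gi, xi]
  have hsurj : Function.Surjective (contractLeft R N) := by
    rw [← LinearMap.range_eq_top]
    by_contra hne
    obtain ⟨q, hq, hle⟩ := Ideal.exists_le_maximal (LinearMap.range (contractLeft R N)) hne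
    have h0 : ∀ z : q.ResidueField ⊗[R] N, z = 0 := fun z => by
      induction z using TensorProduct.induction_on with
      | zero => rfl
      | add a b ha hb => rw [ha, hb, add_zero]
      | tmul c y =>
        rw [← hrep y, TensorProduct.tmul_sum]
        refine Finset.sum_eq_zero fun i _ => ?_
        have hmem : gi i y ∈ q := hle ⟨gi i ⊗ₜ y, contractLeft_apply _ _⟩
        rw [TensorProduct.tmul_smul, TensorProduct.smul_tmul', Algebra.smul_def,
          Ideal.algebraMap_residueField_eq_zero.2 hmem, zero_mul, TensorProduct.zero_tmul]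
    haveI : Subsingleton (q.ResidueField ⊗[R] N) := subsingleton_of_forall_eq 0 h0
    have h1 := h ⟨q, inferInstance⟩
    rw [Module.rankAtStalk_eq] at h1
    exact one_ne_zero (h1.symm.trans Module.finrank_zero_of_subsingleton)
  obtain ⟨u, hu⟩ := hsurj 1
  have hinv : ∀ t : Module.Dual R N ⊗[R] N, t = contractLeft R N t • u := fun t => by
    induction t using TensorProduct.induction_on with
    | zero => simp
    | add a b ha hb => rw [map_add, add_smul, ← ha, ← hb]
    | tmul φ x =>
      have hu' : ∀ w : Module.Dual R N ⊗[R] N,
          contractLeft R N w • (φ ⊗ₜ[R] x) = φ x • w := fun w => by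
        induction w using TensorProduct.induction_on with
        | zero => simp
        | add a b ha hb => rw [map_add, add_smul, smul_add, ha, hb]
        | tmul ψ y =>
          rw [contractLeft_apply, ← TensorProduct.tmul_smul, key ψ y x, TensorProduct.tmul_smul,
            TensorProduct.smul_tmul', TensorProduct.smul_tmul']
          congr 1
          refine LinearMap.ext fun z => ?_
          have := congrArg φ (key ψ x z)
          simp only [map_smul, smul_eq_mul] at this
          simp only [LinearMap.smul_apply, smul_eq_mul, this, mul_comm]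
      rw [contractLeft_apply, ← hu' u, hu, one_smul]
  exact ⟨⟨fun a b hab => by rw [hinv a, hinv b, hab], hsurj⟩⟩

end Groth.L06.RootOver
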