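import Groth.Agent.L06.RootOver.Fibre
import Groth.Agent.L06.RootOver.Ranks
import Groth.Agent.L25.Locus.FixedConn
import Groth.Agent.L25.RedField.Subtorus
import Groth.Agent.L08.Borel.CommTorus

/-!
# Roots over a ring
-/

set_option autoImplicit false
set_option maxSynthPendingDepth 3
set_option linter.unusedSectionVars false
set_option linter.style.haveILetI false
set_option backward.isDefEq.respectTransparency.types false
set_option maxHeartbeats 1000000
set_option synthInstance.maxHeartbeats 200000

universe u v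

open CategoryTheory CategoryTheory.Limits MonoidalCategory CartesianMonoidalCategory MonObj GrpObj AlgebraicGeometry
open LieS Groth.L25 Groth.L06.Lie Groth.L09.Patch
open scoped TensorProduct

noncomputable section

namespace Groth.L06.RootOver

section Points

variable {R : Type u} [CommRing R]

/-- the algebraic closure of a residue field -/
abbrev geomFld (s : Spec (CommRingCat.of R)) : Type u :=
  AlgebraicClosure ((Spec (CommRingCat.of R)).residueField s)

instance geomAlg (s : Spec (CommRingCat.of R)) : Algebra R (geomFld s) :=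
  (Spec.preimage (Red.geomPt s)).hom.toAlgebra

theorem fB_geomFld (s : Spec (CommRingCat.of R)) : fB R (geomFld s) = Red.geomPt s :=
  Spec.map_preimage _

theorem algebraMap_geomFld (p : PrimeSpectrum R) (x : R) :
    algebraMap R (geomFld (R := R) p) x = 0 ↔ x ∈ p.asIdeal := by
  let s : Spec (CommRingCat.of R) := p
  have hc : algebraMap R (geomFld s) = (algebraMap ((Spec (CommRingCat.of R)).residueField s) (geomFld s)).comp
      (((Scheme.Spec.residueFieldIso (CommRingCat.of R) s).inv.hom).comp (algebraMap R p.asIdeal.ResidueField)) := by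
    refine sp_inj ?_
    show fB R (geomFld s) = _
    rw [fB_geomFld]
    show _ = Spec.map (CommRingCat.ofHom (algebraMap R p.asIdeal.ResidueField) ≫
      (Scheme.Spec.residueFieldIso (CommRingCat.of R) s).inv ≫
      CommRingCat.ofHom (algebraMap ((Spec (CommRingCat.of R)).residueField s) (geomFld s)))
    rw [Spec.map_comp, Spec.map_comp, Category.assoc]
    refine Eq.trans ?_ (congrArg (Spec.map (CommRingCat.ofHom
      (algebraMap ((Spec (CommRingCat.of R)).residueField s) (geomFld s))) ≫ ·)
      (Scheme.Spec.map_residueFieldIso_inv_eq_fromSpecResidueField (CommRingCat.of R) s).symm)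
    rfl
  rw [hc]
  simp only [RingHom.comp_apply, map_eq_zero]
  exact Ideal.algebraMap_residueField_eq_zero

theorem finrank_geomFld (p : PrimeSpectrum R) (N : Type v) [AddCommGroup N] [Module R N] [Module.Finite R N]
    [Module.Flat R N] : Module.finrank (geomFld (R := R) p) (geomFld (R := R) p ⊗[R] N) = Module.rankAtStalk N p := by
  rw [Module.rankAtStalk_eq, finrank_fibre p (geomFld (R := R) p) (algebraMap_geomFld p)]

end Points

section Tori

variable {R : Type u} [CommRing R] {T : Over (Spec (CommRingCat.of R))} {M : Type} [AddCommGroup M]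
  (d : T ≅ Red.DS (Spec (CommRingCat.of R)) M) [GrpObj T] [IsMonHom d.hom]

include d in
theorem commute_pts {X : Over (Spec (CommRingCat.of R))} (a c : X ⟶ T) : a * c = c * a := by
  rw [← cancel_mono d.hom, MonObj.mul_comp, MonObj.mul_comp]
  exact DSPts.char_injective (by rw [DSPts.char_mul, DSPts.char_mul, _root_.mul_comm])

include d in
theorem Ad_T {B : Type u} [CommRing B] [Algebra R B] (t : VecGrp.pt R B ⟶ T) (y : LieR T B) :
    Ad T B (fB R B) t y = y := by
  refine Subtype.ext ?_
  show (proj B (fB R B) ≫ t) * y.1 * (proj B (fB R B) ≫ t)⁻¹ = y.1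
  rw [commute_pts d (proj B (fB R B) ≫ t) y.1, mul_inv_cancel_right]

variable {B : Type u} [CommRing B] [Algebra R B]

/-- the characters of a dual number point -/
def chD (z : dpt B (fB R B) ⟶ T) : Multiplicative M →* DualNumber B :=
  valS d (C := DualNumber B) (f := sp (algebraMap B (DualNumber B)) ≫ fB R B) z

theorem fst_chD (y : LieR T B) (m : Multiplicative M) : (chD d y.1 m).fst = 1 := by
  have h := valS_comp d (f := sp (algebraMap B (DualNumber B)) ≫ fB R B) (f' := fB R B) (zeroSec B (fB R B))
    (TrivSqZeroExt.fstHom B B B).toRingHom rfl y.1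
  have h1 : zeroSec B (fB R B) ≫ y.1 = 1 := (mem_Lie_iff T B _ y.1).1 y.2
  have h2 : valS d (f := fB R B) (zeroSec B (fB R B) ≫ y.1) m = 1 := by
    have := valS_one d (C := B) (f := fB R B)
    exact (congrArg (fun t : VecGrp.pt R B ⟶ T => valS d t m) h1).trans (DFunLike.congr_fun this m)
  exact (DFunLike.congr_fun h m).symm.trans h2

/-- the differential of the characters -/
def dlog (y : LieR T B) (m : M) : B := (chD d y.1 (Multiplicative.ofAdd m)).snd

theorem dlog_mul (y y' : LieR T B) (m : M) : dlog d (y * y') m = dlog d y m + dlog d y' m := by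
  have h : chD d (y * y').1 = chD d y.1 * chD d y'.1 :=
    valS_mul d (C := DualNumber B) (f := sp (algebraMap B (DualNumber B)) ≫ fB R B) y.1 y'.1
  simp only [dlog, h, MonoidHom.mul_apply, TrivSqZeroExt.snd_mul, fst_chD]
  simp [add_comm]

theorem dlog_smul (c : B) (y : LieR T B) (m : M) : dlog d (c • y) m = c * dlog d y m := by
  have h := valS_comp d (f := sp (algebraMap B (DualNumber B)) ≫ fB R B)
    (f' := sp (algebraMap B (DualNumber B)) ≫ fB R B) (scale B (fB R B) c) (scaleHom c) rfl y.1
  show (chD d (scale B (fB R B) c ≫ y.1) (Multiplicative.ofAdd m)).snd = _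
  rw [show chD d (scale B (fB R B) c ≫ y.1) = (scaleHom c : DualNumber B →* DualNumber B).comp (chD d y.1) from h,
    MonoidHom.comp_apply]
  exact Groth.L06.Lie.scaleHom_snd c _

theorem dlog_pullR {B' : Type u} [CommRing B'] [Algebra R B'] (φ : B →ₐ[R] B') (y : LieR T B) (m : M) :
    dlog d (pullR T φ y) m = φ (dlog d y m) := by
  have h := valS_comp d (f := sp (algebraMap B (DualNumber B)) ≫ fB R B)
    (f' := sp (algebraMap B' (DualNumber B')) ≫ fB R B') (dptMapR φ) (bcHom φ.toRingHom) rfl y.1
  show (chD d (dptMapR φ ≫ y.1) (Multiplicative.ofAdd m)).snd = _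
  rw [show chD d (dptMapR φ ≫ y.1) = (bcHom φ.toRingHom : DualNumber B →* DualNumber B').comp (chD d y.1) from h,
    MonoidHom.comp_apply]
  exact Groth.L06.Lie.bcHom_snd φ.toRingHom _

theorem exists_dlog (f : M →+ B) : ∃ y : LieR T B, ∀ m, dlog d y m = f m := by
  let χ : Multiplicative M →* DualNumber B :=
    { toFun := fun m => TrivSqZeroExt.inl 1 + TrivSqZeroExt.inr (f (Multiplicative.toAdd m))
      map_one' := TrivSqZeroExt.ext (by simp) (by simp)
      map_mul' := fun m m' => TrivSqZeroExt.ext (by simp) (by simp [add_comm]) }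
  let z : dpt B (fB R B) ⟶ T := ptS d (C := DualNumber B) (sp (algebraMap B (DualNumber B)) ≫ fB R B) χ
  have hz : chD d z = χ := valS_ptS d χ
  have hmem : z ∈ LieR T B := by
    rw [mem_Lie_iff]
    refine valS_injective d (f := fB R B) ?_
    have h := valS_comp d (f := sp (algebraMap B (DualNumber B)) ≫ fB R B) (f' := fB R B) (zeroSec B (fB R B))
      (TrivSqZeroExt.fstHom B B B).toRingHom rfl z
    refine h.trans ((valS_one d (C := B) (f := fB R B)).symm ▸ MonoidHom.ext fun m => ?_)
    show ((chD d z) m).fst = 1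
    rw [hz]
    simp [χ]
  exact ⟨⟨z, hmem⟩, fun m => by
    show (chD d z (Multiplicative.ofAdd m)).snd = f m
    rw [hz]
    simp [χ]⟩

/-- differentials of characters, linearly -/
def dlogL : LAR T B →ₗ[B] (M → B) where
  toFun y := dlog d y.pnt
  map_add' y y' := funext fun m => dlog_mul d y.pnt y'.pnt m
  map_smul' c y := funext fun m => dlog_smul d c y.pnt m

end Tori

section Hom

variable {R : Type u} [CommRing R] {G H : Over (Spec (CommRingCat.of R))} [GrpObj G] [GrpObj H] (f : G ⟶ H)
  [IsMonHom f] {B : Type u} [CommRing B] [Algebra R B]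

/-- a homomorphism on Lie algebras, linearly -/
def mapL : LAR G B →ₗ[B] LAR H B where
  toFun z := ⟨LieS.map B (fB R B) f z.pnt⟩
  map_add' z z' := LA.ext (map_mul (LieS.map B (fB R B) f) z.pnt z'.pnt)
  map_smul' c z := LA.ext (Subtype.ext (by
    show (scale B (fB R B) c ≫ z.pnt.1) ≫ f = scale B (fB R B) c ≫ z.pnt.1 ≫ f
    rw [Category.assoc]))

theorem mapL_injective [Mono f] : Function.Injective (mapL f (B := B)) := fun z z' h =>
  LA.ext (Subtype.ext ((cancel_mono f).1 (congrArg (fun w : LAR H B => w.pnt.1) h)))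

theorem map_pullR {B' : Type u} [CommRing B'] [Algebra R B'] (φ : B →ₐ[R] B') (z : LieR G B) :
    pullR H φ (LieS.map B (fB R B) f z) = LieS.map B' (fB R B') f (pullR G φ z) :=
  Subtype.ext (Category.assoc _ _ _).symm

theorem map_Ad (g : VecGrp.pt R B ⟶ G) (z : LieR G B) :
    LieS.map B (fB R B) f (Ad G B (fB R B) g z) = Ad H B (fB R B) (g ≫ f) (LieS.map B (fB R B) f z) := by
  refine Subtype.ext ?_
  show ((proj B (fB R B) ≫ g) * z.1 * (proj B (fB R B) ≫ g)⁻¹) ≫ f =
    (proj B (fB R B) ≫ g ≫ f) * (z.1 ≫ f) * (proj B (fB R B) ≫ g ≫ f)⁻¹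
  rw [MonObj.mul_comp, MonObj.mul_comp, GrpObj.inv_comp, Category.assoc]

end Hom

/-- the hypotheses -/
structure Hyp {R : Type u} [CommRing R] {G T : Over (Spec (CommRingCat.of R))} [GrpObj G] [GrpObj T] (i : T ⟶ G)
    {M : Type} [AddCommGroup M] (d : T ≅ Red.DS (Spec (CommRingCat.of R)) M) : Prop where
  red : Red.IsReductive G
  max : Red.IsMaximalTorus i

section Global

variable {R : Type u} [CommRing R] {G T : Over (Spec (CommRingCat.of R))} [GrpObj G] [GrpObj T]
  [IsAffine G.left] [Smooth G.hom] {M : Type} [AddCommGroup M] [Module.Finite ℤ M] [Module.Free ℤ M]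
  (d : T ≅ Red.DS (Spec (CommRingCat.of R)) M) [IsMonHom d.hom] (i : T ⟶ G) [IsMonHom i]
  {L : Type v} [LieRing L] [LieAlgebra R L] [Module.Finite R L] [Module.Projective R L]
  (mdl : LieS.Model G R (fB R R) L)

/-- a basis of characters -/
def chBasis : M ≃+ (Fin (Module.finrank ℤ M) → ℤ) :=
  (Module.finBasis ℤ M).equivFun.toAddEquiv

/-- the weight component of a test algebra -/
abbrev P (B : Type u) [CommRing B] [Algebra R B] (m : M) : B ⊗[R] L →ₗ[B] B ⊗[R] L :=
  ((torAct d i mdl).pi m).baseChange B

theorem pullR_id (z : LieR G R) : pullR G (Algebra.ofId R R) z = z := by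
  refine Subtype.ext ?_
  show dptMapR (Algebra.ofId R R) ≫ z.1 = z.1
  conv_rhs => rw [← Category.id_comp z.1]
  congr 1
  refine Over.OverMorphism.ext ((congrArg sp (RingHom.ext fun x => ?_)).trans sp_id)
  exact TrivSqZeroExt.ext (by simp) (by simp)

theorem modelWeightSpOf_eq (b : M) {α : T ⟶ Red.Gm (Spec (CommRingCat.of R))}
    (hα : ∀ (B' : Type u) [CommRing B'] [Algebra R B'] (t : VecGrp.pt R B' ⟶ T),
      VecGrp.chiVal α t = valS d t (Multiplicative.ofAdd b)) :
    LieWt.modelWeightSpOf mdl i α = LinearMap.range ((torAct d i mdl).pi b) := by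
  refine Submodule.ext fun x => ?_
  show mdl.e (Multiplicative.ofAdd x) ∈ LieWt.weightSpOf i α R ↔ _
  rw [← pullR_id (mdl.e (Multiplicative.ofAdd x)), ← lieE_one_tmul mdl R x, mem_weightSpOf_iff d i mdl R b hα,
    LinearMap.baseChange_tmul]
  constructor
  · intro h
    exact ⟨x, by simpa using congrArg (TensorProduct.lid R L) h⟩
  · rintro ⟨y, rfl⟩
    rw [TorAct.pi_self]

theorem rankAtStalk_range (m : M) (p : PrimeSpectrum R) :
    Module.rankAtStalk (LinearMap.range ((torAct d i mdl).pi m)) p = rk d i mdl (geomFld (R := R) p) m := by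
  haveI := ((torAct d i mdl).pi_finite_projective m).1
  haveI := ((torAct d i mdl).pi_finite_projective m).2
  rw [← finrank_geomFld p, TorAct.finrank_baseChange_range]

variable (H : Hyp i d) {a : M} (ha : a ≠ 0) [hroot : Module.Invertible R (LinearMap.range ((torAct d i mdl).pi a))]

include H in
theorem geom_props (s : Spec (CommRingCat.of R)) :
    Red.IsReductiveOver (geomFld s) (Red.bc (fB R (geomFld s)) G) ∧
      AGF.IsMaxTorus ((Over.pullback (fB R (geomFld s))).map i) := by
  haveI := H.max.2.1
  constructor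
  · rw [fB_geomFld]
    exact H.red.2.2 s
  · refine ⟨inferInstance, inferInstance, Groth.L25.Locus.isTorus_bc H.max.2.2.1 _, ?_⟩
    rw [fB_geomFld]
    exact H.max.2.2.2 s

include H ha hroot in
theorem rk_facts (p : PrimeSpectrum R) :
    rk d i mdl (geomFld (R := R) p) a = 1 ∧ rk d i mdl (geomFld (R := R) p) (-a) = 1 ∧
      rk d i mdl (geomFld (R := R) p) 0 = Module.finrank ℤ M ∧
      ∀ m, m ≠ 0 → m ≠ a → m ≠ -a → (∀ f : M →+ ℤ, f a = 0 → f m = 0) →
        rk d i mdl (geomFld (R := R) p) m = 0 := by
  obtain ⟨hG, hT⟩ := geom_props d i H (p : Spec (CommRingCat.of R))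
  refine fibre_facts d i mdl hG hT chBasis ha ?_
  show Module.finrank _ _ ≠ 0
  rw [← TorAct.finrank_baseChange_range, Module.Invertible.finrank_eq_one]
  exact one_ne_zero

include H ha hroot in
/-- **the opposite of a root is a root** -/
theorem invertible_neg : Module.Invertible R (LinearMap.range ((torAct d i mdl).pi (-a))) := by
  haveI := ((torAct d i mdl).pi_finite_projective (-a)).1
  haveI := ((torAct d i mdl).pi_finite_projective (-a)).2
  exact invertible_of_rank_one _ fun p => by rw [rankAtStalk_range]; exact (rk_facts d i mdl H ha p).2.1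

include H ha hroot in
theorem pi_eq_zero_line {m : M} (h0 : m ≠ 0) (h1 : m ≠ a) (h2 : m ≠ -a)
    (hm : ∀ f : M →+ ℤ, f a = 0 → f m = 0) : (torAct d i mdl).pi m = 0 := by
  haveI := ((torAct d i mdl).pi_finite_projective m).1
  haveI := ((torAct d i mdl).pi_finite_projective m).2
  haveI := subsingleton_of_rank_zero (LinearMap.range ((torAct d i mdl).pi m)) fun p => by
    rw [rankAtStalk_range]; exact (rk_facts d i mdl H ha p).2.2.2 m h0 h1 h2 hm
  exact LinearMap.ext fun x => congrArg Subtype.val
    (Subsingleton.elim (⟨_, x, rfl⟩ : LinearMap.range ((torAct d i mdl).pi m)) 0)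

theorem neg_ne_self {x : M} (hx : x ≠ 0) : x ≠ -x := fun h => hx (chBasis.injective (by
  have h' := congrArg chBasis h
  rw [map_neg] at h'
  rw [map_zero]
  exact funext fun j => by
    have : chBasis x j = -chBasis x j := congrFun h' j
    simp only [Pi.zero_apply]; omega))

theorem act_eq_self_of_image {B : Type u} [CommRing B] [Algebra R B] (y : LAR T B) (w : B ⊗[R] L)
    (hw : lieE mdl B w = mapL i y) {B' : Type u} [CommRing B'] [Algebra R B'] (φ : B →ₐ[R] B')
    (χ : Multiplicative M →* B') : (torAct d i mdl).act B' χ (VecGrp.Wmap φ w) = VecGrp.Wmap φ w := by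
  rw [← valS_ptS d (f := fB R B') χ, ← act_one_iff d i mdl, hw]
  show Ad G B' (fB R B') (ptS d (fB R B') χ ≫ i) (pullR G φ (LieS.map B (fB R B) i y.pnt)) =
    pullR G φ (LieS.map B (fB R B) i y.pnt)
  rw [map_pullR, ← map_Ad, Ad_T d]

theorem P_zero_of_image {B : Type u} [CommRing B] [Algebra R B] (y : LAR T B) (w : B ⊗[R] L)
    (hw : lieE mdl B w = mapL i y) : P d i mdl B 0 w = w := by
  refine ((torAct d i mdl).hasWt_iff 0 w).1 fun B' _ _ φ χ => ?_
  rw [act_eq_self_of_image d i mdl y w hw φ χ, ofAdd_zero, map_one, one_smul]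

include H ha hroot in
/-- **the weight zero part is the Lie algebra of the torus** -/
theorem exists_preimage {B : Type u} [CommRing B] [Algebra R B] (w : B ⊗[R] L) (hw : P d i mdl B 0 w = w) :
    ∃ y : LAR T B, mapL i y = lieE mdl B w := by
  haveI := H.max.2.1
  let D := torAct d i mdl
  let r := Module.finrank ℤ M
  choose y hy using fun j : Fin r => exists_dlog d (B := R)
    (((Int.castRingHom R).toAddMonoidHom.comp (Pi.evalAddMonoidHom (fun _ => ℤ) j)).comp chBasis.toAddMonoidHom)
  let x : Fin r → L := fun j => Multiplicative.toAdd (mdl.e.symm (LieS.map R (fB R R) i (y j)))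
  let q : (Fin r → R) →ₗ[R] L := Fintype.linearCombination R x
  have hxB : ∀ (C : Type u) [CommRing C] [Algebra R C] (j : Fin r),
      lieE mdl C (1 ⊗ₜ x j) = mapL i ⟨pullR T (Algebra.ofId R C) (y j)⟩ := fun C _ _ j => by
    refine LA.ext ?_
    rw [lieE_one_tmul]
    show pullR G (Algebra.ofId R C) (mdl.e (Multiplicative.ofAdd (Multiplicative.toAdd (mdl.e.symm _)))) = _
    rw [ofAdd_toAdd, MulEquiv.apply_symm_apply, map_pullR]
    rfl
  have hx0 : ∀ j, D.pi 0 (x j) = x j := fun j => by
    have h := P_zero_of_image d i mdl _ _ (hxB R j)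
    rw [P, LinearMap.baseChange_tmul] at h
    simpa using congrArg (TensorProduct.lid R L) h
  have hq0 : ∀ c, q c ∈ LinearMap.range (D.pi 0) := fun c => by
    rw [Fintype.linearCombination_apply]
    exact Submodule.sum_mem _ fun j _ => Submodule.smul_mem _ _ ⟨x j, hx0 j⟩
  let q0 : (Fin r → R) →ₗ[R] LinearMap.range (D.pi 0) := q.codRestrict _ hq0
  haveI := (D.pi_finite_projective (0 : M)).1
  haveI := (D.pi_finite_projective (0 : M)).2
  have hsurj : Function.Surjective q0 := by
    refine surjective_of_fibres q0 fun p => ⟨geomFld (R := R) p, inferInstance, inferInstance,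
      algebraMap_geomFld p, ?_⟩
    let K := geomFld (R := R) p
    have hrank : Module.finrank K (K ⊗[R] (Fin r → R)) = Module.finrank K (K ⊗[R] LinearMap.range (D.pi 0)) := by
      rw [TorAct.finrank_baseChange_range, (TensorProduct.piScalarRight R K K (Fin r)).finrank_eq,
        Module.finrank_fin_fun]
      exact (rk_facts d i mdl H ha p).2.2.1.symm
    haveI : Module.Finite K (K ⊗[R] (Fin r → R)) := inferInstance
    haveI : Module.Finite K (K ⊗[R] LinearMap.range (D.pi 0)) := inferInstance
    refine (LinearMap.injective_iff_surjective_of_finrank_eq_finrank hrank).1 ?_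
    refine (injective_iff_map_eq_zero _).2 fun v hv => ?_
    obtain ⟨c, rfl⟩ := (TensorProduct.piScalarRight R K K (Fin r)).symm.surjective v
    have hv' : q.baseChange K ((TensorProduct.piScalarRight R K K (Fin r)).symm c) = 0 := by
      have h := congrArg ((LinearMap.range (D.pi 0)).subtype.baseChange K) hv
      rw [← LinearMap.comp_apply, ← LinearMap.baseChange_comp, map_zero] at h
      exact h
    have hsum : (TensorProduct.piScalarRight R K K (Fin r)).symm c = ∑ j, c j ⊗ₜ[R] (Pi.single j 1 : Fin r → R) := by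
      rw [LinearEquiv.symm_apply_eq, map_sum]
      funext l
      simp [Finset.sum_apply, Pi.single_apply]
    rw [hsum, map_sum] at hv'
    simp only [LinearMap.baseChange_tmul, q, Fintype.linearCombination_apply_single, one_smul] at hv'
    have h2 := congrArg (lieE mdl K) hv'
    rw [map_sum, map_zero] at h2
    let z : LAR T K := ∑ j, c j • (⟨pullR T (Algebra.ofId R K) (y j)⟩ : LAR T K)
    have h3 : mapL i z = 0 := by
      rw [map_sum, ← h2]
      refine Finset.sum_congr rfl fun j _ => ?_
      rw [map_smul, ← hxB, ← map_smul, TensorProduct.smul_tmul', smul_eq_mul, _root_.mul_one]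
    have h4 : z = 0 := mapL_injective i (h3.trans (map_zero (mapL i)).symm)
    have hc : c = 0 := funext fun l => by
      have h5 := congrFun (congrArg (dlogL d) h4) (chBasis.symm (Pi.single l 1))
      rw [map_zero, map_sum, Finset.sum_apply] at h5
      have h6 : ∀ j, (dlogL d (c j • (⟨pullR T (Algebra.ofId R K) (y j)⟩ : LAR T K)))
          (chBasis.symm (Pi.single l 1)) = if j = l then c j else 0 := fun j => by
        show dlog d (c j • pullR T (Algebra.ofId R K) (y j)) _ = _
        rw [dlog_smul, dlog_pullR, hy]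
        simp [Pi.single_apply]
      simp only [h6, Finset.sum_ite_eq', Finset.mem_univ, if_true, Pi.zero_apply] at h5
      exact h5
    rw [hc, map_zero]
  -- descend to the test algebra
  have hdec : ((LinearMap.range (D.pi 0)).subtype.baseChange B) ∘ₗ ((D.pi 0).rangeRestrict.baseChange B) =
      P d i mdl B 0 := by
    rw [← LinearMap.baseChange_comp, LinearMap.subtype_comp_codRestrict]
  obtain ⟨v, hv⟩ := LinearMap.lTensor_surjective B hsurj ((D.pi 0).rangeRestrict.baseChange B w)
  obtain ⟨c, rfl⟩ := (TensorProduct.piScalarRight R B B (Fin r)).symm.surjective v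
  have hsum : (TensorProduct.piScalarRight R B B (Fin r)).symm c = ∑ j, c j ⊗ₜ[R] (Pi.single j 1 : Fin r → R) := by
    rw [LinearEquiv.symm_apply_eq, map_sum]
    funext l
    simp [Finset.sum_apply, Pi.single_apply]
  have hw' : q.baseChange B ((TensorProduct.piScalarRight R B B (Fin r)).symm c) = w := by
    conv_rhs => rw [← hw, ← hdec, LinearMap.comp_apply, ← hv]
    show _ = (LinearMap.range (D.pi 0)).subtype.baseChange B (q0.baseChange B _)
    rw [← LinearMap.comp_apply, ← LinearMap.baseChange_comp]
    rfl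
  refine ⟨∑ j, c j • (⟨pullR T (Algebra.ofId R B) (y j)⟩ : LAR T B), ?_⟩
  rw [← hw', hsum, map_sum, map_sum, map_sum]
  refine Finset.sum_congr rfl fun j _ => ?_
  rw [map_smul, ← hxB, ← map_smul, TensorProduct.smul_tmul', smul_eq_mul, _root_.mul_one]
  simp [q, Fintype.linearCombination_apply_single]

/-- the part of the centraliser -/
abbrev Q (a : M) (B : Type u) [CommRing B] [Algebra R B] : B ⊗[R] L →ₗ[B] B ⊗[R] L :=
  P d i mdl B 0 + P d i mdl B a + P d i mdl B (-a)

variable {Ta : Over (Spec (CommRingCat.of R))} [GrpObj Ta] (j : Ta ⟶ T) [IsMonHom j]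
  {Z : Over (Spec (CommRingCat.of R))} [GrpObj Z] (z : Z ⟶ G) [IsMonHom z]

include H ha hroot in
/-- **the Lie algebra of the centraliser of the kernel of a root** -/
theorem mem_centralizer_iff (hz : Red.IsCentralizerOf (j ≫ i) z)
    (hjα : j ≫ d.hom ≫ Red.chi (Spec (CommRingCat.of R)) a = 1)
    (hmax : ∀ (T' : Over (Spec (CommRingCat.of R))) [GrpObj T'] (j' : T' ⟶ T) [IsMonHom j'] [Mono j'],
      Red.IsTorus T' → j' ≫ d.hom ≫ Red.chi (Spec (CommRingCat.of R)) a = 1 → ∃ f : T' ⟶ Ta, f ≫ j = j')
    {B : Type u} [CommRing B] [Algebra R B] (w : B ⊗[R] L) :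
    (lieE mdl B w).pnt ∈ Subgroup.map (LieS.map B (fB R B) z) ⊤ ↔ Q d i mdl a B w = w := by
  classical
  let D := torAct d i mdl
  have hna := neg_ne_self ha
  rw [mem_range_centralizer d i mdl B j z hz]
  constructor
  · intro h
    let r := Module.finrank ℤ M
    have hb : chBasis a ≠ (0 : Fin r → ℤ) := fun e => ha ((chBasis (M := M)).injective (e.trans (map_zero (chBasis (M := M))).symm))
    obtain ⟨r', p, a₀, hp, ha₀, hker, hpa, -⟩ := Groth.L14.Luna.SemiRank.exists_line_proj hb
    let q : M →+ (Fin r' → ℤ) := p.comp chBasis.toAddMonoidHom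
    have hq : Function.Surjective q := hp.comp chBasis.surjective
    let T' := Red.DS (Spec (CommRingCat.of R)) (Fin r' → ℤ)
    let j' : T' ⟶ T := Red.DSmap (Spec (CommRingCat.of R)) q ≫ d.inv
    haveI : IsMonHom (Red.DSmap (Spec (CommRingCat.of R)) q) := Groth.L25.TorusTorsion.isMonHom_DSmap _ _
    haveI : IsMonHom d.inv := inferInstance
    haveI : IsMonHom j' := inferInstanceAs (IsMonHom (Red.DSmap _ q ≫ d.inv))
    haveI : Mono (Red.DSmap (Spec (CommRingCat.of R)) q) := ⟨fun u v huv => DSPts.char_injective (MonoidHom.ext fun m => by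
      obtain ⟨n, hn⟩ := hq (Multiplicative.toAdd m)
      have h1 := DFunLike.congr_fun (congrArg DSPts.char huv) (Multiplicative.ofAdd n)
      rw [SplitSub.char_DSmap, SplitSub.char_DSmap] at h1
      have hm : AddMonoidHom.toMultiplicative q (Multiplicative.ofAdd n) = m := congrArg Multiplicative.ofAdd hn
      rwa [MonoidHom.comp_apply, MonoidHom.comp_apply, hm] at h1)⟩
    haveI : Mono j' := mono_comp _ _
    obtain ⟨f, hf⟩ := hmax T' j' (Groth.L25.RedField.isTorus_split _ r') (by
      have e : j' ≫ d.hom ≫ Red.chi (Spec (CommRingCat.of R)) a =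
          Red.DSmap (Spec (CommRingCat.of R)) q ≫ Red.chi (Spec (CommRingCat.of R)) a := by simp [j']
      rw [e, Red.chi, Groth.L25.TorusTorsion.DSmap_comp,
        show q.comp (zmultiplesHom M a) = 0 from AddMonoidHom.ext_int (by simpa [q] using hpa)]
      exact Groth.L08.Borel.DSmap_zero')
    have hfix : ∀ m, q m ≠ 0 → P d i mdl B m w = 0 := fun m hm =>
      D.eq_zero_of_fixed q (fun B' _ _ φ χ => by
        let t' : VecGrp.pt R B' ⟶ T' :=
          DSPts.pt (T := VecGrp.pt R B') (((Scheme.ΓSpecIso (CommRingCat.of B')).inv.hom.toMonoidHom).comp χ)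
        have hval : valS d ((t' ≫ f) ≫ j) = χ.comp q.toMultiplicative := by
          rw [Category.assoc, hf]
          refine MonoidHom.ext fun m => ?_
          show (Scheme.ΓSpecIso (CommRingCat.of B')).hom (DSPts.char ((t' ≫ j') ≫ d.hom) m) = _
          rw [show (t' ≫ j') ≫ d.hom = t' ≫ Red.DSmap (Spec (CommRingCat.of R)) q by simp [j'],
            SplitSub.char_DSmap, DSPts.char_pt]
          exact Iso.inv_hom_id_apply _ _
        rw [← hval]
        exact h B' φ (t' ≫ f)) hm
    have hvan : ∀ m, m ≠ 0 → m ≠ a → m ≠ -a → P d i mdl B m w = 0 := fun m h0 h1 h2 => by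
      by_cases hm : q m = 0
      · rw [P, pi_eq_zero_line d i mdl H ha h0 h1 h2 ?_, LinearMap.baseChange_zero, LinearMap.zero_apply]
        intro f hf'
        obtain ⟨n, hn⟩ := (hker (chBasis m)).1 hm
        obtain ⟨l, hl⟩ := (hker (chBasis a)).1 hpa
        have e : l • m = n • a := chBasis.injective (by rw [map_zsmul, map_zsmul, hn, hl, smul_comm])
        have := congrArg f e
        rw [map_zsmul, map_zsmul, hf', smul_zero, smul_eq_zero] at this
        exact this.resolve_left fun hl0 => hb (by rw [hl, hl0, zero_smul])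
      · exact hfix m hm
    conv_rhs => rw [← D.sum_piB B w]
    simp only [Q, LinearMap.add_apply]
    rw [show P d i mdl B 0 w + P d i mdl B a w + P d i mdl B (-a) w =
      ∑ m ∈ ({0, a, -a} : Finset M), P d i mdl B m w by
        rw [Finset.sum_insert (by simp [ha.symm, ha]), Finset.sum_pair hna, add_assoc]]
    rw [Finset.sum_subset (Finset.subset_union_left (s₂ := D.supp)) fun m _ hm => by
        simp only [Finset.mem_insert, Finset.mem_singleton, not_or] at hm
        exact hvan m hm.1 hm.2.1 hm.2.2,
      ← Finset.sum_subset (Finset.subset_union_right (s₁ := ({0, a, -a} : Finset M))) fun m _ hm =>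
        D.piB_eq_zero B hm w]
  · intro h B' _ _ φ s
    have h1 : valS d (s ≫ j) (Multiplicative.ofAdd a) = 1 := by
      rw [← chiVal_eq]
      show (Scheme.ΓSpecIso (CommRingCat.of B')).hom (Red.gmFn ((s ≫ j) ≫ d.hom ≫ Red.chi _ a)) = _
      rw [Category.assoc, hjα, MonObj.comp_one, GmPts.gmFn_one, map_one]
    have h2 : valS d (s ≫ j) (Multiplicative.ofAdd (-a)) = 1 := by
      have h3 := map_mul (valS d (s ≫ j)) (Multiplicative.ofAdd a) (Multiplicative.ofAdd (-a))
      rwa [← ofAdd_add, add_neg_cancel, ofAdd_zero, map_one, h1, _root_.one_mul, eq_comm] at h3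
    have hP : ∀ m, valS d (s ≫ j) (Multiplicative.ofAdd m) = 1 →
        (torAct d i mdl).act B' (valS d (s ≫ j)) (VecGrp.Wmap φ (P d i mdl B m w)) = VecGrp.Wmap φ (P d i mdl B m w) := fun m hm => by
      rw [D.hasWt_piB m w B' φ, hm, one_smul]
    rw [← h]
    simp only [Q, LinearMap.add_apply, map_add, hP 0 (by rw [ofAdd_zero, map_one]), hP a h1, hP (-a) h2]

end Global

end Groth.L06.RootOver
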