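import Groth.Agent.L06.RootOver.Graded
import Groth.Agent.L06.RootOver.LieCo
import Groth.Agent.L25.DSPts
import Groth.Agent.L25.SplitSub.Map
import Groth.Prelude.Def_GmPts

/-!
# The grading of the Lie algebra by the adjoint action of a split torus over a ring
-/

set_option autoImplicit false
set_option maxSynthPendingDepth 3
set_option linter.unusedSectionVars false
set_option linter.style.haveILetI false
set_option backward.isDefEq.respectTransparency.types false
set_option backward.isDefEq.respectTransparency false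
set_option maxHeartbeats 1000000

universe u v

open CategoryTheory MonoidalCategory CartesianMonoidalCategory MonObj GrpObj AlgebraicGeometry
open LieS Groth.L20.Pinch Groth.L09.Patch Groth.L06.Lie TensorProduct
open Groth.L25

noncomputable section

namespace Groth.L06.RootOver

section Trans

variable {R : Type u} [CommRing R] {B B' : Type u} [CommRing B] [Algebra R B] [CommRing B'] [Algebra R B']

/-- the two structure maps of a test algebra over a test algebra -/
def dI (φ : B →ₐ[R] B') : dpt B' (sp φ.toRingHom ≫ fB R B) ≅ dpt B' (fB R B') :=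
  Over.isoMk (Iso.refl (Spec (CommRingCat.of (DualNumber B')))) (by
    show 𝟙 _ ≫ sp (algebraMap B' (DualNumber B')) ≫ sp (algebraMap R B') =
      sp (algebraMap B' (DualNumber B')) ≫ sp φ.toRingHom ≫ sp (algebraMap R B)
    rw [Category.id_comp]
    congr 1
    rw [sp_comp]
    congr 1
    exact RingHom.ext fun r => (φ.commutes r).symm)

theorem dI_proj (φ : B →ₐ[R] B') :
    (dI φ).hom ≫ proj B' (fB R B') = proj B' (sp φ.toRingHom ≫ fB R B) ≫ (VecGrp.ptIso φ).hom :=
  Over.OverMorphism.ext ((Category.id_comp _).trans (Category.comp_id _).symm)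

theorem dI_dptMapR (φ : B →ₐ[R] B') : (dI φ).hom ≫ dptMapR φ = dptMap (fB R B) φ.toRingHom :=
  Over.OverMorphism.ext (Category.id_comp _)

theorem dI_scale (φ : B →ₐ[R] B') (c : B') :
    (dI φ).hom ≫ scale B' (fB R B') c = scale B' (sp φ.toRingHom ≫ fB R B) c ≫ (dI φ).hom :=
  Over.OverMorphism.ext ((Category.id_comp _).trans (Category.comp_id _).symm)

variable (G : Over (Spec (CommRingCat.of R))) [GrpObj G]

theorem tr_iff (φ : B →ₐ[R] B') (g : VecGrp.pt R B' ⟶ G) (c : B') (x : LieR G B) :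
    Ad G B' _ ((VecGrp.ptIso φ).hom ≫ g) (pull G _ φ.toRingHom x) = c • pull G _ φ.toRingHom x ↔
      Ad G B' (fB R B') g (pullR G φ x) = c • pullR G φ x := by
  rw [Subtype.ext_iff, Subtype.ext_iff]
  show (proj B' _ ≫ (VecGrp.ptIso φ).hom ≫ g) * (dptMap (fB R B) φ.toRingHom ≫ x.1) *
      (proj B' _ ≫ (VecGrp.ptIso φ).hom ≫ g)⁻¹ = scale B' _ c ≫ dptMap (fB R B) φ.toRingHom ≫ x.1 ↔
    (proj B' (fB R B') ≫ g) * (dptMapR φ ≫ x.1) * (proj B' (fB R B') ≫ g)⁻¹ =
      scale B' (fB R B') c ≫ dptMapR φ ≫ x.1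
  conv_rhs => rw [← cancel_epi (dI φ).hom, MonObj.comp_mul, MonObj.comp_mul, GrpObj.comp_inv,
    ← Category.assoc (dI φ).hom (proj B' (fB R B')), ← Category.assoc (dI φ).hom (dptMapR φ),
    ← Category.assoc (dI φ).hom (scale B' (fB R B') c), dI_proj, dI_dptMapR, dI_scale, Category.assoc,
    Category.assoc, ← Category.assoc (dI φ).hom (dptMapR φ), dI_dptMapR]

theorem tr_iff_one (φ : B →ₐ[R] B') (g : VecGrp.pt R B' ⟶ G) (x : LieR G B) :
    Ad G B' _ ((VecGrp.ptIso φ).hom ≫ g) (pull G _ φ.toRingHom x) = pull G _ φ.toRingHom x ↔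
      Ad G B' (fB R B') g (pullR G φ x) = pullR G φ x := by
  have h := tr_iff G φ g 1 x
  rwa [LieWt.one_rescale, LieWt.one_rescale] at h

theorem pullR_pullR {B'' : Type u} [CommRing B''] [Algebra R B''] (φ : B →ₐ[R] B') (ψ : B' →ₐ[R] B'')
    (z : LieR G B) : pullR G ψ (pullR G φ z) = pullR G (ψ.comp φ) z := by
  refine Subtype.ext ?_
  show dptMapR ψ ≫ dptMapR φ ≫ z.1 = dptMapR (ψ.comp φ) ≫ z.1
  rw [← Category.assoc]
  congr 1
  refine Over.OverMorphism.ext ((sp_comp _ _).trans (congrArg sp (RingHom.ext fun x => ?_)))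
  exact TrivSqZeroExt.ext (by simp) (by simp)

/-- the adjoint action, linearly -/
def AdL (g : VecGrp.pt R B ⟶ G) : LAR G B →ₗ[B] LAR G B where
  toFun z := ⟨Ad G B (fB R B) g z.pnt⟩
  map_add' z z' := LA.ext (map_mul (Ad G B (fB R B) g) z.pnt z'.pnt)
  map_smul' b z := LA.ext (LieWt.Ad_rescale G (fB R B) g b z.pnt)

theorem AdL_pnt (g : VecGrp.pt R B ⟶ G) (z : LAR G B) : (AdL G g z).pnt = Ad G B (fB R B) g z.pnt := rfl

theorem Ad_mul (g g' : VecGrp.pt R B ⟶ G) (z : LieR G B) :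
    Ad G B (fB R B) (g * g') z = Ad G B (fB R B) g (Ad G B (fB R B) g' z) := by
  refine Subtype.ext ?_
  show (proj B (fB R B) ≫ (g * g')) * z.1 * (proj B (fB R B) ≫ (g * g'))⁻¹ =
    (proj B (fB R B) ≫ g) * ((proj B (fB R B) ≫ g') * z.1 * (proj B (fB R B) ≫ g')⁻¹) * (proj B (fB R B) ≫ g)⁻¹
  rw [MonObj.comp_mul]
  group

theorem Ad_one (z : LieR G B) : Ad G B (fB R B) 1 z = z := by
  refine Subtype.ext ?_
  show (proj B (fB R B) ≫ 1) * z.1 * (proj B (fB R B) ≫ 1)⁻¹ = z.1
  rw [MonObj.comp_one, _root_.one_mul, inv_one, _root_.mul_one]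

theorem mem_map_centralizer_iff {G S Z : Over (Spec (CommRingCat.of R))} [GrpObj G] [GrpObj S] [GrpObj Z]
    (i : S ⟶ G) (z : Z ⟶ G) [IsMonHom z] (hz : Red.IsCentralizerOf i z) (x : LieR G B) :
    x ∈ Subgroup.map (LieS.map B (fB R B) z) ⊤ ↔
      ∀ (B' : Type u) [CommRing B'] [Algebra R B'] (φ : B →ₐ[R] B') (s : VecGrp.pt R B' ⟶ S),
        Ad G B' (fB R B') (s ≫ i) (pullR G φ x) = pullR G φ x := by
  haveI : Mono z := hz.2.1
  constructor
  · rintro ⟨y, -, hy⟩ B' _ _ φ s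
    have h := (centralizer_iff i x).1 ((hz.2.2 _ x.1).1 ⟨y.1, congrArg Subtype.val hy⟩) B' φ.toRingHom
      ((VecGrp.ptIso φ).hom ≫ s)
    rw [Category.assoc] at h
    exact (tr_iff_one G φ (s ≫ i) x).1 h
  · intro h
    obtain ⟨y, hy⟩ := (hz.2.2 _ x.1).2 ((centralizer_iff i x).2 fun B' _ hh k => by
      letI : Algebra R B' := (hh.comp (algebraMap R B)).toAlgebra
      let φ : B →ₐ[R] B' := { hh with commutes' := fun r => rfl }
      have h' := (tr_iff_one G φ ((VecGrp.ptIso φ).inv ≫ k ≫ i) x).2 (by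
        have := h B' φ ((VecGrp.ptIso φ).inv ≫ k)
        rwa [Category.assoc] at this)
      rw [Iso.hom_inv_id_assoc] at h'
      exact h')
    have hmem : y ∈ LieR Z B := by
      rw [mem_Lie_iff, ← cancel_mono z, Category.assoc, hy, MonObj.one_comp]
      exact (mem_Lie_iff G B _ _).1 x.2
    exact ⟨⟨y, hmem⟩, trivial, Subtype.ext hy⟩

end Trans

section Torus

variable {R : Type u} [CommRing R] {T : Over (Spec (CommRingCat.of R))} {M : Type} [AddCommGroup M]
  (d : T ≅ Red.DS (Spec (CommRingCat.of R)) M)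

/-- the character of a point of a split torus -/
def valS {C : Type u} [CommRing C] {f : Spec (CommRingCat.of C) ⟶ Spec (CommRingCat.of R)} (t : Over.mk f ⟶ T) :
    Multiplicative M →* C :=
  ((Scheme.ΓSpecIso (CommRingCat.of C)).hom.hom.toMonoidHom).comp (DSPts.char (t ≫ d.hom))

theorem valS_comp {C C' : Type u} [CommRing C] [CommRing C']
    {f : Spec (CommRingCat.of C) ⟶ Spec (CommRingCat.of R)} {f' : Spec (CommRingCat.of C') ⟶ Spec (CommRingCat.of R)}
    (h : Over.mk f' ⟶ Over.mk f) (ψ : C →+* C') (hh : h.left = sp ψ) (t : Over.mk f ⟶ T) :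
    valS d (h ≫ t) = (ψ : C →* C').comp (valS d t) := by
  refine MonoidHom.ext fun m => ?_
  show (Scheme.ΓSpecIso (CommRingCat.of C')).hom (DSPts.char ((h ≫ t) ≫ d.hom) m) =
    ψ ((Scheme.ΓSpecIso (CommRingCat.of C)).hom (DSPts.char (t ≫ d.hom) m))
  rw [Category.assoc, DSPts.char_comp, hh]
  exact congrArg (fun k => (ConcreteCategory.hom k) (DSPts.char (t ≫ d.hom) m))
    (Scheme.ΓSpecIso_naturality (CommRingCat.ofHom ψ))

variable {C : Type u} [CommRing C] {f : Spec (CommRingCat.of C) ⟶ Spec (CommRingCat.of R)}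

theorem valS_injective : Function.Injective (valS d : (Over.mk f ⟶ T) → _) := fun t t' h => by
  rw [← cancel_mono d.hom]
  refine DSPts.char_injective (MonoidHom.ext fun m => ?_)
  exact (Scheme.ΓSpecIso (CommRingCat.of C)).commRingCatIsoToRingEquiv.injective (DFunLike.congr_fun h m)

variable (f) in
/-- the point of a character -/
def ptS (χ : Multiplicative M →* C) : Over.mk f ⟶ T :=
  DSPts.pt (T := Over.mk f) (((Scheme.ΓSpecIso (CommRingCat.of C)).inv.hom.toMonoidHom).comp χ) ≫ d.inv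

theorem valS_ptS (χ : Multiplicative M →* C) : valS d (ptS d f χ) = χ := by
  refine MonoidHom.ext fun m => ?_
  show (Scheme.ΓSpecIso (CommRingCat.of C)).hom (DSPts.char ((DSPts.pt (T := Over.mk f) _ ≫ d.inv) ≫ d.hom) m) = χ m
  rw [Category.assoc, Iso.inv_hom_id, Category.comp_id, DSPts.char_pt]
  exact Iso.inv_hom_id_apply _ _

theorem ptS_valS (t : Over.mk f ⟶ T) : ptS d f (valS d t) = t := valS_injective d (valS_ptS d _)

variable [GrpObj T] [IsMonHom d.hom]

theorem valS_mul (t t' : Over.mk f ⟶ T) : valS d (t * t') = valS d t * valS d t' := by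
  refine MonoidHom.ext fun m => ?_
  show (Scheme.ΓSpecIso (CommRingCat.of C)).hom (DSPts.char ((t * t') ≫ d.hom) m) = _
  rw [MonObj.mul_comp, DSPts.char_mul, MonoidHom.mul_apply, map_mul]
  rfl

theorem valS_one : valS d (1 : Over.mk f ⟶ T) = 1 := by
  refine MonoidHom.ext fun m => ?_
  show (Scheme.ΓSpecIso (CommRingCat.of C)).hom (DSPts.char ((1 : Over.mk f ⟶ T) ≫ d.hom) m) = _
  rw [MonObj.one_comp, DSPts.char_one, MonoidHom.one_apply, map_one]
  rfl

theorem ptS_mul (χ χ' : Multiplicative M →* C) : ptS d f (χ * χ') = ptS d f χ * ptS d f χ' :=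
  valS_injective d (by rw [valS_mul, valS_ptS, valS_ptS, valS_ptS])

theorem ptS_one : ptS d f 1 = 1 := valS_injective d (by rw [valS_one, valS_ptS])

theorem gmFn_chi {X : Over (Spec (CommRingCat.of R))} (t : X ⟶ Red.DS (Spec (CommRingCat.of R)) M) (m : M) :
    Red.gmFn (t ≫ Red.chi (Spec (CommRingCat.of R)) m) = DSPts.char t (Multiplicative.ofAdd m) := by
  have h := DFunLike.congr_fun (SplitSub.char_DSmap t (zmultiplesHom M m : ℤ →+ M)) (Multiplicative.ofAdd 1)
  refine Eq.trans ?_ (h.trans ?_)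
  · rfl
  · show DSPts.char t (Multiplicative.ofAdd ((zmultiplesHom M m) 1)) = _
    rw [zmultiplesHom_apply, one_zsmul]

variable {B : Type u} [CommRing B] [Algebra R B]

theorem chiVal_eq (a : M) (t : VecGrp.pt R B ⟶ T) :
    VecGrp.chiVal (d.hom ≫ Red.chi (Spec (CommRingCat.of R)) a) t = valS d t (Multiplicative.ofAdd a) := by
  show (Scheme.ΓSpecIso (CommRingCat.of B)).hom (Red.gmFn (t ≫ d.hom ≫ Red.chi _ a)) = _
  rw [← Category.assoc, gmFn_chi]
  rfl

theorem chiVal_one (t : VecGrp.pt R B ⟶ T) :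
    VecGrp.chiVal (1 : T ⟶ Red.Gm (Spec (CommRingCat.of R))) t = 1 := by
  show (Scheme.ΓSpecIso (CommRingCat.of B)).hom (Red.gmFn (t ≫ 1)) = _
  rw [MonObj.comp_one, GmPts.gmFn_one, map_one]

theorem chiVal_inv (a : M) (t : VecGrp.pt R B ⟶ T) :
    VecGrp.chiVal (d.hom ≫ Red.chi (Spec (CommRingCat.of R)) a)⁻¹ t = valS d t (Multiplicative.ofAdd (-a)) := by
  let α := d.hom ≫ Red.chi (Spec (CommRingCat.of R)) a
  have h : VecGrp.chiVal α⁻¹ t * valS d t (Multiplicative.ofAdd a) = 1 := by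
    rw [← chiVal_eq]
    show (Scheme.ΓSpecIso (CommRingCat.of B)).hom (Red.gmFn (t ≫ α⁻¹)) *
      (Scheme.ΓSpecIso (CommRingCat.of B)).hom (Red.gmFn (t ≫ α)) = 1
    rw [← map_mul, ← GmPts.gmFn_mul, ← MonObj.comp_mul, inv_mul_cancel, MonObj.comp_one, GmPts.gmFn_one, map_one]
  calc VecGrp.chiVal α⁻¹ t = VecGrp.chiVal α⁻¹ t * valS d t (Multiplicative.ofAdd (a + -a)) := by
        rw [add_neg_cancel, ofAdd_zero, map_one, _root_.mul_one]
    _ = _ := by rw [ofAdd_add, map_mul, ← _root_.mul_assoc, h, _root_.one_mul]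

end Torus

section Setup

variable {R : Type u} [CommRing R] {G T : Over (Spec (CommRingCat.of R))} [GrpObj G] [GrpObj T]
  [IsAffine G.left] [Smooth G.hom] {M : Type} [AddCommGroup M] (d : T ≅ Red.DS (Spec (CommRingCat.of R)) M)
  [IsMonHom d.hom] (i : T ⟶ G) [IsMonHom i] {L : Type v} [LieRing L] [LieAlgebra R L]
  (mdl : LieS.Model G R (fB R R) L)

/-- the base change isomorphism of the Lie algebra -/
def lieE (B : Type u) [CommRing B] [Algebra R B] : B ⊗[R] L ≃ₗ[B] LAR G B :=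
  ((exists_lieEquiv mdl).2.2 B).choose

theorem lieE_one_tmul (B : Type u) [CommRing B] [Algebra R B] (x : L) :
    (lieE mdl B (1 ⊗ₜ x)).pnt = pullR G (Algebra.ofId R B) (mdl.e (Multiplicative.ofAdd x)) :=
  ((exists_lieEquiv mdl).2.2 B).choose_spec x

theorem lieE_natural {B B' : Type u} [CommRing B] [Algebra R B] [CommRing B'] [Algebra R B'] (φ : B →ₐ[R] B')
    (w : B ⊗[R] L) : (lieE mdl B' (VecGrp.Wmap φ w)).pnt = pullR G φ (lieE mdl B w).pnt := by
  induction w using TensorProduct.induction_on with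
  | zero => simp
  | add a b ha hb => rw [map_add, map_add, map_add, LA.pnt_add, LA.pnt_add, map_mul, ha, hb]
  | tmul b x =>
    have h1 : ∀ (C : Type u) [CommRing C] [Algebra R C] (c : C), lieE mdl C (c ⊗ₜ x) = c • lieE mdl C (1 ⊗ₜ x) :=
      fun C _ _ c => by rw [← map_smul, TensorProduct.smul_tmul', smul_eq_mul, _root_.mul_one]
    rw [VecGrp.Wmap_tmul, h1 B' (φ b), h1 B b]
    show φ b • (lieE mdl B' (1 ⊗ₜ x)).pnt = pullR G φ (b • (lieE mdl B (1 ⊗ₜ x)).pnt)
    rw [pullR_smul, lieE_one_tmul, lieE_one_tmul, pullR_pullR]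
    congr 2
    exact congrArg (pullR G) (AlgHom.ext fun r => (φ.commutes r).symm)

/-- the adjoint action of the characters on `W(L)` -/
def torAct : TorAct R M L where
  act B _ _ χ := (lieE mdl B).symm.toLinearMap ∘ₗ AdL G (ptS d (fB R B) χ ≫ i) ∘ₗ (lieE mdl B).toLinearMap
  natural {B B'} _ _ _ _ φ χ w := by
    show VecGrp.Wmap φ ((lieE mdl B).symm (AdL G _ (lieE mdl B w))) =
      (lieE mdl B').symm (AdL G _ (lieE mdl B' (VecGrp.Wmap φ w)))
    rw [LinearEquiv.eq_symm_apply]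
    refine LA.ext ?_
    rw [lieE_natural, LinearEquiv.apply_symm_apply, AdL_pnt, AdL_pnt, lieE_natural, pullR_Ad, ← Category.assoc]
    congr 3
    refine valS_injective d (f := fB R B') ?_
    rw [valS_comp d (VecGrp.ptMap φ) φ.toRingHom rfl, valS_ptS, valS_ptS]
    rfl
  act_one B _ _ w := by
    show (lieE mdl B).symm (AdL G _ (lieE mdl B w)) = w
    rw [LinearEquiv.symm_apply_eq]
    refine LA.ext ?_
    rw [AdL_pnt, ptS_one, MonObj.one_comp, Ad_one]
  act_mul B _ _ χ χ' w := by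
    show (lieE mdl B).symm (AdL G _ (lieE mdl B w)) =
      (lieE mdl B).symm (AdL G _ (lieE mdl B ((lieE mdl B).symm (AdL G _ (lieE mdl B w)))))
    rw [LinearEquiv.apply_symm_apply]
    congr 1
    refine LA.ext ?_
    rw [AdL_pnt, AdL_pnt, AdL_pnt, ptS_mul, MonObj.mul_comp, Ad_mul]

variable {B : Type u} [CommRing B] [Algebra R B]

theorem lieE_act (χ : Multiplicative M →* B) (w : B ⊗[R] L) :
    (lieE mdl B ((torAct d i mdl).act B χ w)).pnt = Ad G B (fB R B) (ptS d (fB R B) χ ≫ i) (lieE mdl B w).pnt := by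
  show (lieE mdl B ((lieE mdl B).symm (AdL G _ (lieE mdl B w)))).pnt = _
  rw [LinearEquiv.apply_symm_apply, AdL_pnt]

theorem act_iff {B' : Type u} [CommRing B'] [Algebra R B'] (φ : B →ₐ[R] B') (t : VecGrp.pt R B' ⟶ T) (c : B')
    (w : B ⊗[R] L) :
    Ad G B' _ ((VecGrp.ptIso φ).hom ≫ t ≫ i) (pull G _ φ.toRingHom (lieE mdl B w).pnt) =
        c • pull G _ φ.toRingHom (lieE mdl B w).pnt ↔
      (torAct d i mdl).act B' (valS d t) (VecGrp.Wmap φ w) = c • VecGrp.Wmap φ w := by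
  rw [tr_iff, ← (lieE mdl B').injective.eq_iff, LA.ext_iff, lieE_act, ptS_valS, lieE_natural]
  constructor
  · intro h
    rw [h, map_smul]
    show c • pullR G φ (lieE mdl B w).pnt = c • (lieE mdl B' (VecGrp.Wmap φ w)).pnt
    rw [lieE_natural]
  · intro h
    rw [h, map_smul]
    show c • (lieE mdl B' (VecGrp.Wmap φ w)).pnt = _
    rw [lieE_natural]

variable (B)

theorem mem_weightSpOf_iff (b : M) {α : T ⟶ Red.Gm (Spec (CommRingCat.of R))}
    (hα : ∀ (B' : Type u) [CommRing B'] [Algebra R B'] (t : VecGrp.pt R B' ⟶ T),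
      VecGrp.chiVal α t = valS d t (Multiplicative.ofAdd b))
    [Module.Finite R L] (w : B ⊗[R] L) :
    (lieE mdl B w).pnt ∈ LieWt.weightSpOf i α B ↔ ((torAct d i mdl).pi b).baseChange B w = w := by
  rw [← TorAct.hasWt_iff]
  constructor
  · intro h B' _ _ φ χ
    have h1 := h B' φ (ptS d (fB R B') χ)
    simp only [hα] at h1
    rw [valS_ptS, act_iff d i mdl, valS_ptS] at h1
    exact h1
  · intro h B' _ _ φ t
    simp only [hα]
    rw [act_iff d i mdl]
    exact h B' φ (valS d t)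

theorem act_one_iff {B' : Type u} [CommRing B'] [Algebra R B'] (φ : B →ₐ[R] B') (t : VecGrp.pt R B' ⟶ T)
    (w : B ⊗[R] L) :
    Ad G B' (fB R B') (t ≫ i) (pullR G φ (lieE mdl B w).pnt) = pullR G φ (lieE mdl B w).pnt ↔
      (torAct d i mdl).act B' (valS d t) (VecGrp.Wmap φ w) = VecGrp.Wmap φ w := by
  rw [← (lieE mdl B').injective.eq_iff, LA.ext_iff, lieE_act, ptS_valS, lieE_natural]

/-- **points of a centraliser** -/
theorem mem_range_centralizer {S Z : Over (Spec (CommRingCat.of R))} [GrpObj S] [GrpObj Z] (j : S ⟶ T) [IsMonHom j]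
    (z : Z ⟶ G) [IsMonHom z] (hz : Red.IsCentralizerOf (j ≫ i) z) (w : B ⊗[R] L) :
    (lieE mdl B w).pnt ∈ Subgroup.map (LieS.map B (fB R B) z) ⊤ ↔
      ∀ (B' : Type u) [CommRing B'] [Algebra R B'] (φ : B →ₐ[R] B') (s : VecGrp.pt R B' ⟶ S),
        (torAct d i mdl).act B' (valS d (s ≫ j)) (VecGrp.Wmap φ w) = VecGrp.Wmap φ w := by
  rw [mem_map_centralizer_iff (j ≫ i) z hz]
  constructor
  · intro h B' _ _ φ s
    rw [← act_one_iff d i mdl, Category.assoc]
    exact h B' φ s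
  · intro h B' _ _ φ s
    rw [← Category.assoc, act_one_iff d i mdl]
    exact h B' φ s

end Setup

end Groth.L06.RootOver
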